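/-
TwoGroups: p-groups all of whose abelian normal subgroups are cyclic.
-/
import Cfsg.Agent.Lib.TwoGroups.RankOne

namespace CfsgLib.TwoGroups

variable {G : Type*} [Group G]

/-- All abelian normal subgroups are cyclic. -/
def NormalAbelianCyclic (G : Type*) [Group G] : Prop :=
  ∀ B : Subgroup G, B.Normal → IsMulCommutative B → IsCyclic B

/-- Conjugates of `w` differ from `w` by powers of `z`: the subgroup `⟨z, w⟩` is normal abelian. -/
theorem not_normalAbelianCyclic {p : ℕ} [hp : Fact p.Prime] {z w : G} (hz : orderOf z = p)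
    (hzc : z ∈ Subgroup.center G) (hw : w ^ p = 1) (hwz : w ∉ Subgroup.zpowers z)
    (hconj : ∀ t : G, ∃ i : ℤ, t * w * t⁻¹ = z ^ i * w) : ¬ NormalAbelianCyclic G := by
  intro h
  set W := Subgroup.closure ({z, w} : Set G) with hW
  have hzW : z ∈ W := Subgroup.subset_closure (by simp)
  have hwW : w ∈ W := Subgroup.subset_closure (by simp)
  have hn : W.Normal := ⟨fun g hg t => by
    induction hg using Subgroup.closure_induction with
    | mem u hu =>
      rcases hu with rfl | rfl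
      · rw [Subgroup.mem_center_iff.1 hzc t, mul_inv_cancel_right]; exact hzW
      · obtain ⟨i, hi⟩ := hconj t
        rw [hi]; exact W.mul_mem (W.zpow_mem hzW i) hwW
    | one => simp
    | mul u v _ _ hu hv =>
      rw [show t * (u * v) * t⁻¹ = (t * u * t⁻¹) * (t * v * t⁻¹) by group]; exact mul_mem hu hv
    | inv u _ hu => rw [show t * u⁻¹ * t⁻¹ = (t * u * t⁻¹)⁻¹ by group]; exact inv_mem hu⟩
  have hc : IsMulCommutative W := Subgroup.isMulCommutative_closure (by
    rintro a (rfl | rfl) b (rfl | rfl)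
    · rfl
    · exact (Subgroup.mem_center_iff.1 hzc _).symm
    · exact Subgroup.mem_center_iff.1 hzc _
    · rfl)
  obtain ⟨u, hu⟩ := (Subgroup.isCyclic_iff_exists_zpowers_eq_top W).1 (h W hn hc)
  obtain ⟨i, hi⟩ := Subgroup.mem_zpowers_iff.1 (hu ▸ hwW)
  obtain ⟨j, hj⟩ := Subgroup.mem_zpowers_iff.1 (hu ▸ hzW)
  -- both `z` and `w` lie in the subgroup of `p`-torsion of a cyclic group
  have hu' : ∀ a : ℤ, (u ^ a) ^ p = 1 → (orderOf u : ℤ) ∣ a * p := fun a ha => by
    rwa [← zpow_natCast, ← zpow_mul, ← orderOf_dvd_iff_zpow_eq_one] at ha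
  have hi' := hu' i (by rw [hi, hw])
  have hj' := hu' j (by rw [hj, ← hz, pow_orderOf_eq_one])
  by_cases hpu : p ∣ orderOf u
  · obtain ⟨q, hq⟩ := hpu
    have hp0 : (p : ℤ) ≠ 0 := by exact_mod_cast hp.out.ne_zero
    rw [hq, Nat.cast_mul, mul_comm (p : ℤ), mul_dvd_mul_iff_right hp0] at hi' hj'
    obtain ⟨i₁, rfl⟩ := hi'
    obtain ⟨j₁, rfl⟩ := hj'
    by_cases hpj : (p : ℤ) ∣ j₁
    · obtain ⟨c, rfl⟩ := hpj
      have : z = 1 := by
        rw [← hj, ← orderOf_dvd_iff_zpow_eq_one, hq]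
        exact ⟨c, by push_cast; ring⟩
      rw [this, orderOf_one] at hz
      exact hp.out.ne_one hz.symm
    · obtain ⟨a, b, hab⟩ := (Nat.prime_iff_prime_int.1 hp.out).coprime_iff_not_dvd.2 hpj
      refine hwz (Subgroup.mem_zpowers_iff.2 ⟨b * i₁, ?_⟩)
      rw [← hj, ← hi, ← zpow_mul, zpow_eq_zpow_iff_modEq, Int.modEq_iff_dvd, hq]
      exact ⟨a * i₁, by push_cast; linear_combination (-(q : ℤ) * i₁) * hab⟩
  · have hco : IsCoprime (orderOf u : ℤ) (p : ℤ) :=
      ((Nat.prime_iff_prime_int.1 hp.out).coprime_iff_not_dvd.2 (by exact_mod_cast hpu)).symm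
    have : z = 1 := by
      rw [← hj, ← orderOf_dvd_iff_zpow_eq_one]
      exact hco.dvd_of_dvd_mul_right hj'
    rw [this, orderOf_one] at hz
    exact hp.out.ne_one hz.symm

/-- A finite p-group all of whose abelian normal subgroups are cyclic is cyclic, or `p = 2` and it is
dihedral of order at least 16, generalized quaternion, or quasi-dihedral. -/
theorem isCyclic_or_of_normalAbelianCyclic [Finite G] {p : ℕ} [hp : Fact p.Prime] (hG : IsPGroup p G)
    (h : NormalAbelianCyclic G) :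
    IsCyclic G ∨ (p = 2 ∧ ((∃ m : ℕ, 3 ≤ m ∧ Nonempty (G ≃* DihedralGroup (2 ^ m))) ∨
      (∃ m : ℕ, 1 ≤ m ∧ Nonempty (G ≃* QuaternionGroup (2 ^ m))) ∨ Cfsg.IsQuasiDihedral G)) := by
  obtain ⟨A, -, hAn, hAc, hCA⟩ := exists_normal_abelian_centralizer_eq hG
    (inferInstance : (⊥ : Subgroup G).Normal) inferInstance
  obtain ⟨x, hxA⟩ := (Subgroup.isCyclic_iff_exists_zpowers_eq_top A).1 (h A hAn hAc)
  obtain ⟨n, hn⟩ := IsPGroup.iff_orderOf.1 hG x
  have hcent : ∀ g, Commute g x → g ∈ Subgroup.zpowers x := fun g hg => by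
    rw [hxA, ← hCA, Subgroup.mem_centralizer_iff]
    intro t ht
    rw [← hxA] at ht
    obtain ⟨i, rfl⟩ := Subgroup.mem_zpowers_iff.1 ht
    exact (hg.zpow_right i).symm.eq
  have hnorm : (Subgroup.zpowers x).Normal := hxA ▸ hAn
  by_cases htop : ∀ g : G, g ∈ Subgroup.zpowers x
  · exact Or.inl (isCyclic_iff_exists_zpowers_eq_top.2 ⟨x, (Subgroup.eq_top_iff' _).2 htop⟩)
  push Not at htop
  right
  rcases n with _ | n
  · rw [pow_zero, orderOf_eq_one_iff] at hn
    obtain ⟨g, hg⟩ := htop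
    exact absurd (hcent g (hn ▸ Commute.one_right g)) hg
  have hp0 := hp.out.pos
  have hiff : ∀ a b : ℤ, x ^ a = x ^ b ↔ ((p : ℤ) ^ (n + 1)) ∣ b - a := fun a b => by
    rw [zpow_eq_zpow_iff_dvd hn]; push_cast; rfl
  have hiff1 : ∀ a : ℤ, x ^ a = 1 ↔ ((p : ℤ) ^ (n + 1)) ∣ a := fun a => by
    rw [zpow_eq_one_iff_dvd hn]; push_cast; rfl
  -- conjugation by any element commutes with conjugation by any other
  have hcomm : ∀ t g : G, t * g * t⁻¹ * g⁻¹ ∈ Subgroup.zpowers x := by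
    intro t g
    obtain ⟨a, ha⟩ := Subgroup.mem_zpowers_iff.1 (hnorm.conj_mem x (Subgroup.mem_zpowers x) t)
    obtain ⟨a', ha'⟩ := Subgroup.mem_zpowers_iff.1 (hnorm.conj_mem x (Subgroup.mem_zpowers x) t⁻¹)
    obtain ⟨b, hb⟩ := Subgroup.mem_zpowers_iff.1 (hnorm.conj_mem x (Subgroup.mem_zpowers x) g)
    obtain ⟨b', hb'⟩ := Subgroup.mem_zpowers_iff.1 (hnorm.conj_mem x (Subgroup.mem_zpowers x) g⁻¹)
    have h1 : x ^ (a * a') = x := by
      rw [mul_comm, ← conj_zpow_eq ha'.symm a, ha]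
      group
    have h2 : x ^ (b * b') = x := by
      rw [mul_comm, ← conj_zpow_eq hb'.symm b, hb]
      group
    apply hcent
    have h3 : t * g * t⁻¹ * g⁻¹ * x * (t * g * t⁻¹ * g⁻¹)⁻¹ = x := by
      have e : t * g * t⁻¹ * g⁻¹ * x * (t * g * t⁻¹ * g⁻¹)⁻¹ =
          t * (g * (t⁻¹ * (g⁻¹ * x * g⁻¹⁻¹) * t⁻¹⁻¹) * g⁻¹) * t⁻¹ := by group
      rw [e, ← hb', conj_zpow_eq ha'.symm, conj_zpow_eq hb.symm, conj_zpow_eq ha.symm,
        show a * (b * (a' * b')) = (a * a') * (b * b') by ring, zpow_mul, h1, h2]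
    exact mul_inv_eq_iff_eq_mul.1 h3
  have hstep : ∀ g : G, g ∉ Subgroup.zpowers x → ∃ j : ℕ, g ^ p ^ j ∉ Subgroup.zpowers x ∧
      (g ^ p ^ j) ^ p ∈ Subgroup.zpowers x := by
    intro g hg
    classical
    obtain ⟨m, hm⟩ := IsPGroup.iff_orderOf.1 hG g
    have hex : ∃ i, g ^ p ^ i ∈ Subgroup.zpowers x :=
      ⟨m, by rw [← hm, pow_orderOf_eq_one]; exact one_mem _⟩
    rcases hj : Nat.find hex with _ | j
    · have := Nat.find_spec hex
      rw [hj, pow_zero, pow_one] at this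
      exact absurd this hg
    exact ⟨j, Nat.find_min hex (by omega), by
      rw [← pow_mul, ← pow_succ, ← hj]; exact Nat.find_spec hex⟩
  -- the central element of order `p`
  set z := x ^ ((p : ℤ) ^ n) with hz
  have hzo : orderOf z = p := by
    refine orderOf_eq_prime ?_ ?_
    · rw [hz, ← zpow_natCast, ← zpow_mul, ← pow_succ, hiff1]
    · rw [Ne, hiff1, pow_succ]
      intro hd
      have h1 : ((p : ℤ)) ∣ 1 := (mul_dvd_mul_iff_left (a := (p : ℤ) ^ n) (by
        exact_mod_cast (pow_pos hp0 n).ne')).1 (by rwa [mul_one])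
      exact hp.out.ne_one (by exact_mod_cast Int.eq_one_of_dvd_one (by positivity) h1)
  have hzx : z ∈ Subgroup.zpowers x := Subgroup.zpow_mem_zpowers x _
  have hzc : z ∈ Subgroup.center G := by
    -- a normal subgroup of order `p` is central
    have hzn : (Subgroup.zpowers z).Normal := by
      refine ⟨fun t ht g => ?_⟩
      obtain ⟨i, rfl⟩ := Subgroup.mem_zpowers_iff.1 ht
      obtain ⟨a, ha⟩ := Subgroup.mem_zpowers_iff.1 (hnorm.conj_mem x (Subgroup.mem_zpowers x) g)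
      refine Subgroup.mem_zpowers_iff.2 ⟨a * i, ?_⟩
      rw [hz, ← zpow_mul x ((p : ℤ) ^ n) i, conj_zpow_eq ha.symm, ← zpow_mul]
      congr 1; ring
    have hne : Subgroup.zpowers z ≠ ⊥ := by
      rw [Ne, Subgroup.zpowers_eq_bot]
      intro h1
      rw [h1, orderOf_one] at hzo
      exact hp.out.ne_one hzo.symm
    obtain ⟨u, hu, hu1, huc⟩ := exists_mem_center_of_normal hG hne
    have : Nat.card (Subgroup.zpowers z) = p := by rw [Nat.card_zpowers, hzo]
    have huo : orderOf u = p := by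
      have hd : orderOf u ∣ p := by rw [← this]; exact Subgroup.orderOf_dvd_natCard _ hu
      rcases (Nat.dvd_prime hp.out).1 hd with h1 | h1
      · exact absurd (orderOf_eq_one_iff.1 h1) hu1
      · exact h1
    have heq : Subgroup.zpowers u = Subgroup.zpowers z :=
      Subgroup.eq_of_le_of_card_ge (Subgroup.zpowers_le.2 hu)
        (by rw [this, Nat.card_zpowers, huo])
    exact (Subgroup.zpowers_le.2 huc) (heq ▸ Subgroup.mem_zpowers z)
  have hnW : ∀ w : G, w ∉ Subgroup.zpowers x → w ^ p = 1 →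
      (∀ i : ℤ, (x ^ i * w) ^ p = 1 → ((p : ℤ) ^ n) ∣ i) → False := by
    intro w hw hwp hi
    refine not_normalAbelianCyclic hzo hzc hwp (fun hm => hw (Subgroup.zpowers_le.2 hzx hm))
      (fun t => ?_) h
    obtain ⟨i, hxi⟩ := Subgroup.mem_zpowers_iff.1 (hcomm t w)
    have heq : t * w * t⁻¹ = x ^ i * w := by rw [hxi]; group
    obtain ⟨c, rfl⟩ := hi i (by rw [← heq, conj_pow, hwp, mul_one, mul_inv_cancel])
    exact ⟨c, by rw [heq, hz, ← zpow_mul]⟩
  rcases hp.out.eq_two_or_odd' with rfl | hodd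
  swap
  · -- odd primes
    exfalso
    obtain ⟨g₀, hg₀⟩ := htop
    obtain ⟨j, hj1, hj2⟩ := hstep g₀ hg₀
    set g := g₀ ^ p ^ j
    obtain ⟨r, hr⟩ := Subgroup.mem_zpowers_iff.1 (hnorm.conj_mem x (Subgroup.mem_zpowers x) g)
    obtain ⟨e, he⟩ := Subgroup.mem_zpowers_iff.1 hj2
    have hnc : ¬ Commute g x := fun hc => hj1 (hcent g hc)
    by_cases hpe : (p : ℤ) ∣ e
    · have key : ∀ m : ℕ, g ^ m * x * (g ^ m)⁻¹ = x ^ (r ^ m) := by
        intro m
        induction m with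
        | zero => simp
        | succ m ih =>
          rw [pow_succ', show g * g ^ m * x * (g * g ^ m)⁻¹ = g * (g ^ m * x * (g ^ m)⁻¹) * g⁻¹ by
            group, ih, conj_zpow_eq hr.symm, pow_succ']
      have hrp := key p
      rw [← he, show x ^ e * x * (x ^ e)⁻¹ = x ^ (1 : ℤ) by group, hiff] at hrp
      have hr1 : (p : ℤ) ∣ r - 1 := by
        have h1 : ((r ^ p - 1 : ℤ) : ZMod p) = 0 :=
          (ZMod.intCast_zmod_eq_zero_iff_dvd _ _).2 ((dvd_pow_self _ n.succ_ne_zero).trans hrp)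
        rw [← ZMod.intCast_zmod_eq_zero_iff_dvd]
        push_cast at h1 ⊢
        rwa [ZMod.pow_card] at h1
      obtain ⟨u, hu', hsum⟩ := geom_sum_eq_mul hodd hr1
      obtain ⟨f, rfl⟩ := hpe
      obtain ⟨a, b, hab⟩ := (hu'.pow_right (n := n + 1))
      set w := x ^ (-(f * a)) * g with hw
      have hwr : w * x * w⁻¹ = x ^ r := by
        rw [hw, show x ^ (-(f * a)) * g * x * (x ^ (-(f * a)) * g)⁻¹ =
          x ^ (-(f * a)) * (g * x * g⁻¹) * x ^ (f * a) by group, ← hr, ← zpow_add, ← zpow_add]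
        congr 1; ring
      have hwp : w ^ p = 1 := by
        rw [hw, zpow_mul_pow_eq hr.symm, ← he, ← zpow_add, hsum, hiff1]
        exact ⟨p * f * b, by linear_combination (-(p : ℤ) * f) * hab⟩
      refine hnW w (fun hm => hj1 ((Subgroup.mul_mem_cancel_left _
        (Subgroup.zpow_mem_zpowers x _)).1 hm)) hwp fun i hi => ?_
      rw [zpow_mul_pow_eq hwr, hwp, mul_one, hsum, hiff1, pow_succ,
        show i * ((p : ℤ) * u) = (i * u) * p by ring,
        mul_dvd_mul_iff_right (by exact_mod_cast hp.out.ne_zero)] at hi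
      exact (hu'.pow_right (n := n)).symm.dvd_of_dvd_mul_right hi
    · have hcop : IsCoprime e ((p : ℤ) ^ (n + 1)) :=
        IsCoprime.pow_right ((Nat.prime_iff_prime_int.1 hp.out).coprime_iff_not_dvd.2 hpe).symm
      obtain ⟨a, b, hab⟩ := hcop
      have hxg : x = (g ^ p) ^ a := by
        rw [← he, ← zpow_mul]
        conv_lhs => rw [← zpow_one x]
        rw [hiff]
        exact ⟨-b, by linear_combination hab⟩
      exact hnc (hxg ▸ ((Commute.refl g).pow_right p).zpow_right a)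
  refine ⟨rfl, ?_⟩
  -- involutions modulo `⟨x⟩` invert modulo `2^n`
  have hinv : ∀ g : G, g ∉ Subgroup.zpowers x → g ^ 2 ∈ Subgroup.zpowers x →
      1 ≤ n ∧ ∀ r : ℤ, g * x * g⁻¹ = x ^ r → (2 : ℤ) ^ n ∣ r + 1 := by
    intro g hg hg2
    obtain ⟨e, he⟩ := Subgroup.mem_zpowers_iff.1 hg2
    have hnc : ¬ Commute g x := fun hc => hg (hcent g hc)
    have hodd : ∀ r : ℤ, g * x * g⁻¹ = x ^ r → ∃ d, r = 2 * d + 1 := by
      intro r hr
      rcases Int.even_or_odd r with ⟨c, rfl⟩ | ⟨c, rfl⟩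
      · exfalso
        have h1 : (g * x * g⁻¹) ^ (2 ^ n) = 1 := by
          rw [hr, ← zpow_natCast, ← zpow_mul, hiff1]
          exact ⟨c, by push_cast; ring⟩
        rw [conj_pow, conj_eq_one_iff] at h1
        have := orderOf_dvd_of_pow_eq_one h1
        rw [hn, Nat.pow_dvd_pow_iff_le_right (by norm_num)] at this
        omega
      · exact ⟨c, rfl⟩
    have hone : ∀ r : ℤ, g * x * g⁻¹ = x ^ r → ¬ (2 : ℤ) ^ (n + 1) ∣ r - 1 := fun r hr hd => hnc (by
      have hr1 : g * x * g⁻¹ = x ^ (1 : ℤ) := by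
        rw [hr, hiff, ← neg_sub, dvd_neg]
        exact_mod_cast hd
      rw [zpow_one] at hr1
      exact mul_inv_eq_iff_eq_mul.1 hr1)
    have hn1 : 1 ≤ n := by
      by_contra hn0
      obtain rfl : n = 0 := by omega
      obtain ⟨r, hr⟩ := Subgroup.mem_zpowers_iff.1 (hnorm.conj_mem x (Subgroup.mem_zpowers x) g)
      obtain ⟨d, hd⟩ := hodd r hr.symm
      exact hone r hr.symm ⟨d, by rw [hd]; ring⟩
    refine ⟨hn1, fun r hr => ?_⟩
    obtain ⟨d, hd⟩ := hodd r hr
    rcases n with _ | _ | m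
    · omega
    · exact ⟨d + 1, by rw [hd]; ring⟩
    have hrr : (2 : ℤ) ^ (m + 3) ∣ r * r - 1 := by
      have h1 : g ^ 2 * x * (g ^ 2)⁻¹ = x ^ (1 : ℤ) := by rw [← he]; group
      have h2 : g ^ 2 * x * (g ^ 2)⁻¹ = x ^ (r * r) := by
        rw [← conj_zpow_eq hr r, ← hr, pow_two, mul_inv_rev]; simp only [mul_assoc]
      exact_mod_cast (hiff _ _).1 (h1.symm.trans h2)
    rcases sq_sub_one_cases (m := m + 1) hrr with ⟨q, hq⟩ | hcase
    swap
    · exact hcase
    exfalso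
    rcases Int.even_or_odd q with ⟨d', rfl⟩ | ⟨d', rfl⟩
    · exact hone r hr ⟨d', by rw [hq]; ring⟩
    have hre : (2 : ℤ) ^ (m + 3) ∣ e * (r - 1) := by
      have h1 : g * x ^ e * g⁻¹ = x ^ e := by rw [he]; group
      rw [conj_zpow_eq hr, hiff] at h1
      rw [show e * (r - 1) = -(e - r * e) by ring, dvd_neg]; exact_mod_cast h1
    obtain ⟨f, rfl⟩ : Even e := by
      rw [hq] at hre
      have h3 : (2 : ℤ) ^ (m + 2) * 2 ∣ 2 ^ (m + 2) * (e * (2 * d' + 1)) := by
        convert hre using 1 <;> ring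
      exact even_iff_two_dvd.2 (IsCoprime.dvd_of_dvd_mul_right ⟨-d', 1, by ring⟩
        ((mul_dvd_mul_iff_left (by positivity)).1 h3))
    have hco : IsCoprime (1 + 2 ^ (m + 1) * (2 * d' + 1)) ((2 : ℤ) ^ (m + 3)) :=
      IsCoprime.pow_right ⟨1, -(2 ^ m * (2 * d' + 1)), by ring⟩
    obtain ⟨u, v, huv⟩ := hco
    set w := x ^ (-(f * u)) * g with hw
    have hwr : w * x * w⁻¹ = x ^ r := by
      rw [hw, show x ^ (-(f * u)) * g * x * (x ^ (-(f * u)) * g)⁻¹ =
        x ^ (-(f * u)) * (g * x * g⁻¹) * x ^ (f * u) by group, hr, ← zpow_add, ← zpow_add]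
      congr 1; ring
    have hr_eq : r = 1 + 2 ^ (m + 2) * (2 * d' + 1) := by linear_combination hq
    have hwp : w ^ 2 = 1 := by
      rw [hw, pow_two, zpow_mul_mul_zpow_mul hr, ← he, ← zpow_add, hiff1, hr_eq]
      exact ⟨2 * f * v, by push_cast; linear_combination (-2 * f) * huv⟩
    refine hnW w (fun hm => hg ((Subgroup.mul_mem_cancel_left _
      (Subgroup.zpow_mem_zpowers x _)).1 hm)) hwp fun i hi => ?_
    rw [pow_two (x ^ i * w), ← mul_assoc, mul_assoc _ w, mul_zpow_eq hwr, ← mul_assoc (x ^ i),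
      ← zpow_add, mul_assoc, ← pow_two, hwp, mul_one, hiff1, hr_eq] at hi
    push_cast at hi ⊢
    have hi' : (2 : ℤ) * 2 ^ (m + 2) ∣ 2 * (i * (1 + 2 ^ (m + 1) * (2 * d' + 1))) := by
      convert hi using 1 <;> ring
    exact IsCoprime.dvd_of_dvd_mul_right
      (IsCoprime.pow_left ⟨-(2 ^ m * (2 * d' + 1)), 1, by ring⟩)
      ((mul_dvd_mul_iff_left (by norm_num : (2 : ℤ) ≠ 0)).1 hi')
  -- every element outside `⟨x⟩` squares into it
  have hsq : ∀ g : G, g ∉ Subgroup.zpowers x → g ^ 2 ∈ Subgroup.zpowers x := by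
    intro g hg
    obtain ⟨j, hj1, hj2⟩ := hstep g hg
    rcases j with _ | j
    · simpa using hj2
    exfalso
    have hw2 : g ^ 2 ^ (j + 1) = (g ^ 2 ^ j) ^ 2 := by rw [← pow_mul, ← pow_succ]
    rw [hw2] at hj1 hj2
    obtain ⟨hn1, hinv'⟩ := hinv _ hj1 hj2
    obtain ⟨r, hr⟩ := Subgroup.mem_zpowers_iff.1
      (hnorm.conj_mem x (Subgroup.mem_zpowers x) (g ^ 2 ^ j))
    have h2 : (g ^ 2 ^ j) ^ 2 * x * ((g ^ 2 ^ j) ^ 2)⁻¹ = x ^ (r * r) := by
      rw [← conj_zpow_eq hr.symm r, hr, pow_two (g ^ 2 ^ j), mul_inv_rev]; simp only [mul_assoc]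
    have h3 := hinv' (r * r) h2
    rcases Int.even_or_odd r with ⟨c, rfl⟩ | ⟨c, rfl⟩
    · obtain ⟨q, hq⟩ := (dvd_pow_self (2 : ℤ) (by omega : n ≠ 0)).trans h3
      ring_nf at hq; omega
    · by_cases hn2 : 2 ≤ n
      · obtain ⟨q, hq⟩ := (pow_dvd_pow (2 : ℤ) hn2).trans h3
        ring_nf at hq; omega
      · -- `n = 1`: then `x` has order four and squares act trivially
        obtain rfl : n = 1 := by omega
        refine hj1 (hcent _ ?_)
        have : x ^ ((2 * c + 1) * (2 * c + 1)) = x := by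
          conv_rhs => rw [← zpow_one x]
          rw [hiff]
          rcases Int.even_or_odd c with ⟨d, rfl⟩ | ⟨d, rfl⟩
          · exact ⟨-(4 * d * d + 2 * d), by push_cast; ring⟩
          · exact ⟨-(4 * d * d + 6 * d + 2), by push_cast; ring⟩
        rw [this] at h2
        exact mul_inv_eq_iff_eq_mul.1 h2
  obtain ⟨y, hy⟩ := htop
  have hidx : (Subgroup.zpowers x).index = 2 := by
    rw [Subgroup.index_eq_two_iff]
    refine ⟨y, fun b => ?_⟩
    by_cases hb : b ∈ Subgroup.zpowers x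
    · exact Or.inr ⟨hb, fun hh => hy ((Subgroup.mul_mem_cancel_left _ hb).1 hh)⟩
    refine Or.inl ⟨?_, hb⟩
    by_contra hby
    obtain ⟨hn1, hy'⟩ := hinv y hy (hsq y hy)
    obtain ⟨-, hb'⟩ := hinv b hb (hsq b hb)
    obtain ⟨-, hby'⟩ := hinv (b * y) hby (hsq _ hby)
    obtain ⟨s, hs⟩ := Subgroup.mem_zpowers_iff.1 (hnorm.conj_mem x (Subgroup.mem_zpowers x) y)
    obtain ⟨t, ht⟩ := Subgroup.mem_zpowers_iff.1 (hnorm.conj_mem x (Subgroup.mem_zpowers x) b)
    have h1 : b * y * x * (b * y)⁻¹ = x ^ (t * s) := by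
      rw [show b * y * x * (b * y)⁻¹ = b * (y * x * y⁻¹) * b⁻¹ by group, ← hs, conj_zpow_eq ht.symm]
    obtain ⟨q₁, hq₁⟩ := hy' s hs.symm
    obtain ⟨q₂, hq₂⟩ := hb' t ht.symm
    obtain ⟨q₃, hq₃⟩ := hby' _ h1
    by_cases hn2 : 2 ≤ n
    · obtain ⟨q, hq⟩ : (2 : ℤ) ^ 2 ∣ 2 := (pow_dvd_pow 2 hn2).trans
        ⟨q₃ + q₁ + q₂ - q₁ * q₂ * 2 ^ n, by
          rw [eq_sub_of_add_eq hq₁, eq_sub_of_add_eq hq₂] at hq₃; linear_combination hq₃⟩
      omega
    · obtain rfl : n = 1 := by omega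
      refine hby (hcent _ ?_)
      rcases Int.even_or_odd q₁ with ⟨a, rfl⟩ | ⟨a, rfl⟩ <;>
        rcases Int.even_or_odd q₂ with ⟨c, rfl⟩ | ⟨c, rfl⟩
      all_goals first
        | (refine mul_inv_eq_iff_eq_mul.1 (h1.trans ?_)
           conv_rhs => rw [← zpow_one x]
           rw [hiff, eq_sub_of_add_eq hq₁, eq_sub_of_add_eq hq₂]
           push_cast; ring_nf; omega)
        | (exfalso
           first
             | (refine hy (hcent _ (mul_inv_eq_iff_eq_mul.1 (hs.symm.trans ?_)))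
                conv_rhs => rw [← zpow_one x]
                rw [hiff, eq_sub_of_add_eq hq₁]; push_cast; ring_nf; omega)
             | (refine hb (hcent _ (mul_inv_eq_iff_eq_mul.1 (ht.symm.trans ?_)))
                conv_rhs => rw [← zpow_one x]
                rw [hiff, eq_sub_of_add_eq hq₂]; push_cast; ring_nf; omega))
  have hcard : Nat.card G = 2 ^ (n + 1 + 1) := by
    rw [← Subgroup.index_mul_card (Subgroup.zpowers x), hidx, Nat.card_zpowers, hn]; ring
  obtain ⟨hn1, hy1⟩ := hinv y hy (hsq y hy)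
  rcases cyclicMax_classification hn hcard with hc | hd | ⟨-, hq⟩ | hs | ⟨h3, y', hy', hy2', hyr⟩
  · exact absurd (hc.is_comm.comm y x) fun hcm => hy (hcent y hcm)
  · rcases Nat.lt_or_ge n 2 with hlt | hge
    · exfalso
      obtain rfl : n = 1 := by omega
      obtain ⟨e⟩ := hd
      -- a reflection generates a normal four-group with `z`
      obtain ⟨w, hwx, hw2⟩ : ∃ w : G, w ∉ Subgroup.zpowers x ∧ w ^ 2 = 1 := by
        by_contra! hcon
        have h01 : ∀ i, e.symm (DihedralGroup.sr i) ∈ Subgroup.zpowers x := fun i => by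
          by_contra hm
          refine hcon _ hm ?_
          rw [pow_two, ← map_mul, DihedralGroup.sr_mul_self, map_one]
        obtain ⟨a, ha⟩ := Subgroup.mem_zpowers_iff.1 (h01 0)
        obtain ⟨b, hb⟩ := Subgroup.mem_zpowers_iff.1 (h01 1)
        have h2 : e.symm (DihedralGroup.sr 0) * e.symm (DihedralGroup.sr 1) =
            e.symm (DihedralGroup.sr 1) * e.symm (DihedralGroup.sr 0) := by
          rw [← ha, ← hb, ← zpow_add, ← zpow_add, add_comm]
        have h3 := e.symm.injective ((map_mul e.symm _ _).trans (h2.trans (map_mul e.symm _ _).symm))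
        revert h3
        decide
      obtain ⟨r, hr⟩ := Subgroup.mem_zpowers_iff.1 (hnorm.conj_mem x (Subgroup.mem_zpowers x) w)
      obtain ⟨-, hr'⟩ := hinv w hwx (by rw [hw2]; exact one_mem _)
      have h4 : ∃ q, r = 4 * q - 1 := by
        obtain ⟨q, hq⟩ := hr' r hr.symm
        rcases Int.even_or_odd q with ⟨d, rfl⟩ | ⟨d, rfl⟩
        · exact ⟨d, by linarith⟩
        · exfalso
          refine hwx (hcent _ (mul_inv_eq_iff_eq_mul.1 (hr.symm.trans ?_)))
          conv_rhs => rw [← zpow_one x]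
          rw [hiff]
          exact ⟨-d, by push_cast at hq ⊢; linarith⟩
      obtain ⟨q, rfl⟩ := h4
      refine not_normalAbelianCyclic hzo hzc hw2
        (fun hm => hwx (Subgroup.zpowers_le.2 hzx hm)) (fun t => ?_) h
      have hca : ∀ a : ℤ, ∃ i : ℤ, x ^ a * w * (x ^ a)⁻¹ = z ^ i * w := fun a => by
        refine ⟨a, ?_⟩
        rw [← zpow_neg, mul_assoc, mul_zpow_eq hr.symm, ← mul_assoc, ← zpow_add, hz, ← zpow_mul]
        congr 1
        rw [hiff]
        exact ⟨a * q, by push_cast; ring⟩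
      have hc2 : Nat.card G = 2 * orderOf x := by rw [hcard, hn]; ring
      rcases exists_eq_zpow_or_zpow_mul hc2 hwx t with ⟨a, rfl⟩ | ⟨a, rfl⟩
      · exact hca a
      · obtain ⟨i, hi⟩ := hca a
        refine ⟨i, ?_⟩
        rw [mul_inv_rev, ← hi]
        group
    · exact Or.inl ⟨n + 1, by omega, hd⟩
  · exact Or.inr (Or.inl ⟨n, hn1, by rwa [Nat.add_sub_cancel] at hq⟩)
  · exact Or.inr (Or.inr hs)
  · exfalso
    rw [Nat.add_sub_cancel] at hyr
    obtain ⟨-, hinv''⟩ := hinv y' hy' (by rw [hy2']; exact one_mem _)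
    obtain ⟨q, hq⟩ := (pow_dvd_pow (2 : ℤ) (show 2 ≤ n by omega)).trans (hinv'' _ hyr)
    obtain ⟨q', hq'⟩ := pow_dvd_pow (2 : ℤ) (show 2 ≤ n by omega)
    omega

end CfsgLib.TwoGroups
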