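import Cfsg.Agent.S1896
import Cfsg.Agent.Lib.Alperin.Theorem
import Cfsg.Agent.Lib.Minimal.MaxClassTwo
import Cfsg.Agent.Lib.ThompsonJ.Replacement
import Cfsg.Agent.Lib.Alperin.PPrimeSystem
import Cfsg.Agent.Lib.BGAppendix.RankTwoStructure

/-!
Saturated fusion systems on metacyclic 2-groups: outside the dihedral, semidihedral, quaternion and
homocyclic cases they are inner.
-/

set_option autoImplicit false
set_option linter.style.haveILetI false
set_option linter.unusedSectionVars false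

namespace CfsgLib.TwoGroups

open Cfsg Cfsg.FusionSystem CfsgLib.Alperin

universe u

/-- A metacyclic 2-group has sectional rank at most two. -/
theorem sectionalPRankLE_of_metacyclic {X : Type u} [Group X] [Finite X]
    (hm : Cfsg.IsMetacyclic X) : Cfsg.SectionalPRankLE 2 2 X := by
  intro H N _ A hA hexp
  obtain ⟨a, b, hab⟩ := exists_two_gen
    (BGAppendix.isMetacyclic_subgroup (BGAppendix.isMetacyclic_quotient
      (BGAppendix.isMetacyclic_subgroup hm H) N) A)
  have hc : ∀ x y : A, x * y = y * x := isMulCommutative_iff.1 hA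
  haveI : (Subgroup.zpowers a).Normal := ⟨fun w hw g => by rwa [hc g w, mul_inv_cancel_right]⟩
  have hord : ∀ x : A, orderOf x ≤ 2 := fun x =>
    Nat.le_of_dvd two_pos (orderOf_dvd_of_pow_eq_one (Subtype.ext (hexp x x.2)))
  refine (Nat.card_le_card_of_surjective
    (fun w : Subgroup.zpowers a × Subgroup.zpowers b => (w.1 : A) * w.2) fun z => ?_).trans ?_
  · obtain ⟨u, hu, v, hv, rfl⟩ := Subgroup.mem_sup_of_normal_left.1 (hab ▸ Subgroup.mem_top z)
    exact ⟨(⟨u, hu⟩, ⟨v, hv⟩), rfl⟩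
  · rw [Nat.card_prod, Nat.card_zpowers, Nat.card_zpowers]
    exact (Nat.mul_le_mul (hord a) (hord b)).trans (by norm_num)

/-- An automorphism of odd order of an abelian 2-group fixing the elements of order two is trivial. -/
theorem eq_one_of_fix_involutions {X : Type u} [Group X] [Finite X] (hX : IsPGroup 2 X)
    (hc : ∀ x y : X, x * y = y * x) {φ : MulAut X} {k : ℕ} (hk : Odd k) (hφ : φ ^ k = 1)
    (hfix : ∀ x : X, x * x = 1 → φ x = x) : φ = 1 := by
  refine MulEquiv.ext fun x => ?_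
  obtain ⟨i, hi⟩ := hX x
  show φ x = x
  induction i generalizing x with
  | zero => rw [pow_zero, pow_one] at hi; rw [hi, map_one]
  | succ i ih =>
    have h2 : φ (x * x) = x * x := ih (x * x) (by rw [← pow_two, ← pow_mul, ← pow_succ']; exact hi)
    have hn : (x⁻¹ * φ x) * (x⁻¹ * φ x) = 1 := by
      rw [map_mul] at h2
      calc x⁻¹ * φ x * (x⁻¹ * φ x) = x⁻¹ * (x⁻¹ * (φ x * φ x)) := by
            rw [← mul_assoc (x⁻¹ * φ x), mul_assoc x⁻¹ (φ x) x⁻¹, hc (φ x) x⁻¹]; group
        _ = 1 := by rw [h2]; group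
    exact fixed_of_odd_order hk hφ hX (hfix _ hn) (by rw [hc, mul_inv_cancel_left])

variable {Ω : Type u} [Group Ω] {S : Subgroup Ω} [Finite S]

/-- An essential subgroup of a saturated system on a metacyclic 2-group produces a non-abelian
subgroup of order eight. -/
theorem exists_nonabelian_eight_of_essential (hS : IsPGroup 2 S) (hm : Cfsg.IsMetacyclic S)
    {F : FusionSystem S} (hF : F.IsSaturated 2) {P : Subgroup Ω} (hP : F.IsEssential 2 P) :
    ∃ H : Subgroup Ω, H ≤ S ∧ Nat.card H = 8 ∧ ∃ a ∈ H, ∃ b ∈ H, a * b ≠ b * a := by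
  haveI : Fact (Nat.Prime 2) := ⟨Nat.prime_two⟩
  have hPS : P ≤ S := hP.1.1
  haveI := finite_of_le hPS
  haveI := finite_autGroup F hPS
  set A := F.autGroup P with hA
  have hne := extendableAut_ne_of_essential hS hF hP
  have hlt : P < S := by
    refine lt_of_le_of_ne hPS fun he => hne ?_
    subst he
    refine le_antisymm (extendableAut_le F le_rfl) fun α hα => ?_
    obtain ⟨-, hfn, hnorm, Y, hY⟩ := hP
    exfalso
    obtain ⟨-, -, R, hR⟩ := centralized_automized_of_fullyNormalized hS hF hfn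
    have hR' : (R : Subgroup A) = (Inn P).subgroupOf A := by
      rw [hR]
      congr 1
      refine le_antisymm ?_ (inn_le_autInducedBy le_rfl)
      intro β hβ
      obtain ⟨g, hg, hgx⟩ := mem_autInducedBy_iff.1 hβ
      exact ⟨⟨g, hg⟩, MulEquiv.ext fun x => Subtype.ext (hgx x).symm⟩
    haveI := hnorm
    have h2 : 2 ∣ Nat.card (A ⧸ (Inn P).subgroupOf A) := hY.1
    rw [← Subgroup.index_eq_card, ← hR'] at h2
    exact R.not_dvd_index h2
  have hC : centralizerIn S P ≤ P := hP.1.2 P (isConj_refl F hPS)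
  -- `Aut_F(P)` is not a 2-group
  have hA2 : ¬ IsPGroup 2 A := by
    intro hh
    obtain ⟨-, -, R, hR⟩ := centralized_automized_of_fullyNormalized hS hF hP.2.1
    refine hne (le_antisymm (extendableAut_le F hPS) fun α hα => ?_)
    refine autInducedBy_le_extendableAut hS hlt ?_
    have hall : (R : Subgroup A) = ⊤ :=
      (R.is_maximal' (hh.to_subgroup ⊤) le_top).symm
    have := (hR ▸ hall ▸ Subgroup.mem_top (⟨α, hα⟩ : A) : (⟨α, hα⟩ : A) ∈ (autInducedBy S P).subgroupOf A)
    exact this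
  have hPp : IsPGroup 2 P := isPGroup_of_le hS hPS
  have hmP : Cfsg.IsMetacyclic P := by
    have h1 := BGAppendix.isMetacyclic_subgroup hm (P.subgroupOf S)
    exact BGAppendix.isMetacyclic_of_mulEquiv (Subgroup.subgroupOfEquivOfLe hPS) h1
  by_cases hcP : IsMulCommutative P
  swap
  · rcases Cfsg.Agent.S1896.result hPp hmP (fun hh => hA2 (hh.to_subgroup A)) with ⟨⟨e⟩⟩ | ⟨n, ⟨e⟩⟩
    · refine ⟨P, hPS, by rw [Nat.card_congr e.toEquiv, Nat.card_eq_fintype_card, QuaternionGroup.card], ?_⟩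
      by_contra! h
      exact hcP (isMulCommutative_iff.2 fun a b => Subtype.ext (h a a.2 b b.2))
    · exact absurd (isMulCommutative_iff.2 fun a b => e.injective (by
        rw [map_mul, map_mul, mul_comm])) hcP
  have hc : ∀ x y : P, x * y = y * x := isMulCommutative_iff.1 hcP
  -- only elements of the identity act trivially on the involutions
  have hker : ∀ a ∈ A, (∀ x : P, x * x = 1 → a x = x) → a = 1 := by
    let K : Subgroup A :=
      { carrier := {a | ∀ x : P, x * x = 1 → (a : MulAut P) x = x}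
        one_mem' := fun x _ => rfl
        mul_mem' := fun {a b} ha hb x hx => by
          show (a : MulAut P) ((b : MulAut P) x) = x
          rw [hb x hx, ha x hx]
        inv_mem' := fun {a} ha x hx => by
          show (a : MulAut P).symm x = x
          rw [MulEquiv.symm_apply_eq, ha x hx] }
    have hKn : K.Normal := ⟨fun a ha g x hx => by
      show (g : MulAut P) ((a : MulAut P) ((g : MulAut P).symm x)) = x
      rw [ha _ (by rw [← map_mul, hx, map_one]), MulEquiv.apply_symm_apply]⟩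
    have hK2 : IsPGroup 2 K := isPGroup_two_of_odd fun a k hk hak =>
      Subtype.ext (Subtype.ext (eq_one_of_fix_involutions hPp hc hk
        (congrArg (fun w : K => ((w : A) : MulAut P)) hak) a.2))
    have hKle : K ≤ pCore 2 A := le_sSup ⟨hKn, hK2⟩
    intro a ha hfix
    have h1 : a ∈ Inn P := by
      rw [← (isRadical_of_essential hS hP).2]
      exact ⟨⟨a, ha⟩, hKle hfix, rfl⟩
    obtain ⟨g, rfl⟩ := h1
    refine MulEquiv.ext fun x => ?_
    show g * x * g⁻¹ = x
    rw [hc g x, mul_inv_cancel_right]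
  -- an element of odd order
  obtain ⟨t, ht, k, hk, htk, ht1⟩ : ∃ t ∈ A, ∃ k, Odd k ∧ t ^ k = 1 ∧ t ≠ 1 := by
    by_contra! hh
    exact hA2 (isPGroup_two_of_odd fun a k hk hak =>
      Subtype.ext (hh a a.2 k hk (congrArg Subtype.val hak)))
  have hfix1 : ∀ x : P, t x = x → (t ^ k) x = x := fun x hx => by rw [htk]; rfl
  -- at most three involutions
  have hfour : ∀ e f : P, e * e = 1 → f * f = 1 → e ≠ 1 → f ≠ 1 → e ≠ f → ∀ x : P, x * x = 1 →
      x = 1 ∨ x = e ∨ x = f ∨ x = e * f := by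
    classical
    intro e f he hf he1 hf1 hef x hx
    let T : Subgroup P :=
      { carrier := {y | y * y = 1}
        one_mem' := one_mul 1
        mul_mem' := fun {a b} ha hb => by
          show a * b * (a * b) = 1
          rw [mul_assoc, ← mul_assoc b a b, hc b a, mul_assoc a b b, hb, mul_one]
          exact ha
        inv_mem' := fun {a} ha => by
          show a⁻¹ * a⁻¹ = 1
          rw [← mul_inv_rev, ha, inv_one] }
    have hT : Nat.card (T.map (Subgroup.inclusion hPS)) ≤ 2 ^ 2 := by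
      have hsec := sectionalPRankLE_of_metacyclic hm ⊤ ⊥
      refine le_trans (le_of_eq ?_) (hsec ((T.map (Subgroup.inclusion hPS)).map
        ((QuotientGroup.mk' (⊥ : Subgroup (⊤ : Subgroup S))).comp
          Subgroup.topEquiv.symm.toMonoidHom)) ?_ ?_)
      · refine (Subgroup.card_map_of_injective ?_).symm
        rw [← MonoidHom.ker_eq_bot_iff, eq_bot_iff]
        intro y hy
        rw [MonoidHom.mem_ker, MonoidHom.comp_apply] at hy
        exact Subgroup.mem_bot.2 (congrArg Subtype.val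
          (Subgroup.mem_bot.1 ((QuotientGroup.eq_one_iff _).1 hy)))
      · refine isMulCommutative_iff.2 ?_
        rintro ⟨_, _, ⟨a, -, rfl⟩, rfl⟩ ⟨_, _, ⟨b, -, rfl⟩, rfl⟩
        apply Subtype.ext
        show _ * _ = _ * _
        rw [← map_mul, ← map_mul, ← map_mul, ← map_mul, hc]
      · rintro _ ⟨_, ⟨a, ha, rfl⟩, rfl⟩
        rw [← map_pow, ← map_pow, pow_two, show a * a = 1 from ha, map_one, map_one]
    rw [Subgroup.card_map_of_injective (Subgroup.inclusion_injective hPS)] at hT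
    by_contra! hx'
    obtain ⟨hx1, hxe, hxf, hxef⟩ := hx'
    have hef1 : e * f ≠ 1 := fun h => hef (mul_left_cancel (he.trans h.symm))
    have hne1 : e * f ≠ e := fun h => hf1 (mul_eq_left.1 h)
    have hne2 : e * f ≠ f := fun h => he1 (mul_eq_right.1 h)
    have hmemef : e * f ∈ T := T.mul_mem he hf
    have hsub : ({1, e, f, e * f, x} : Finset P) ⊆ (T : Set P).toFinite.toFinset := by
      intro y hy
      simp only [Finset.mem_insert, Finset.mem_singleton] at hy
      rw [Set.Finite.mem_toFinset]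
      rcases hy with rfl | rfl | rfl | rfl | rfl
      exacts [T.one_mem, he, hf, hmemef, hx]
    have h5 := Finset.card_le_card hsub
    rw [Finset.card_insert_of_notMem (by simp [he1.symm, hf1.symm, hef1.symm, hx1.symm]),
      Finset.card_insert_of_notMem (by simp [hef, hne1.symm, hxe.symm]),
      Finset.card_insert_of_notMem (by simp [hne2.symm, hxf.symm]),
      Finset.card_insert_of_notMem (by simp [hxef.symm]), Finset.card_singleton,
      ← Nat.card_eq_card_finite_toFinset] at h5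
    exact absurd (h5.trans hT) (by norm_num)
  have htfree : ∀ e : P, e * e = 1 → t e = e → e = 1 := by
    intro e he hte
    by_contra he1
    refine ht1 (hker t ht fun x hx => ?_)
    by_contra hne'
    have hx1 : x ≠ 1 := fun h => hne' (by rw [h, map_one])
    have htx : t x * t x = 1 := by rw [← map_mul, hx, map_one]
    have htx1 : t x ≠ 1 := fun h => hx1 (t.injective (h.trans (map_one t).symm))
    have hex : e ≠ x := fun h => hne' (h ▸ hte)
    rcases hfour e x he hx he1 hx1 hex (t x) htx with h | h | h | h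
    · exact htx1 h
    · exact hex (t.injective (hte.trans h.symm))
    · exact hne' h
    · have h2 : (t ^ 2) x = x := by
        rw [pow_two, MulAut.mul_apply, h, map_mul, hte, h, ← mul_assoc, he, one_mul]
      have h2i : ∀ i, (t ^ (2 * i)) x = x := by
        intro i
        induction i with
        | zero => rfl
        | succ i ih => rw [Nat.mul_succ, pow_add, MulAut.mul_apply, h2, ih]
      obtain ⟨m, rfl⟩ := hk
      have h3 : (t ^ (2 * m + 1)) x = x := by rw [htk]; rfl
      rw [pow_succ', MulAut.mul_apply, h2i] at h3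
      exact hne' h3
  obtain ⟨g, hgS, hgN, hgP⟩ : ∃ g ∈ S, g ∈ Subgroup.normalizer (P : Set Ω) ∧ g ∉ P := by
    obtain ⟨g, hg, hgP⟩ := SetLike.exists_of_lt (lt_normalizerIn hS hlt)
    exact ⟨g, (mem_normalizerIn.1 hg).1, (mem_normalizerIn.1 hg).2, hgP⟩
  set α := conjAut P g hgN with hα
  have hαA : α ∈ A := autInducedBy_le_autGroup F hPS (conjAut_mem hgS hgN)
  have hα1 : α ≠ 1 := fun h => hgP (hC (mem_centralizerIn.2 ⟨hgS, fun x hx => by
    have h1 : g * x * g⁻¹ = x := congrArg (fun φ : MulAut P => ((φ ⟨x, hx⟩ : P) : Ω)) h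
    calc x * g = g * x * g⁻¹ * g := by rw [h1]
      _ = g * x := inv_mul_cancel_right _ _⟩))
  obtain ⟨j, hj⟩ : ∃ j, α ^ 2 ^ j = 1 :=
    exists_pow_eq_one_of_mem_autInducedBy hS (conjAut_mem hgS hgN)
  -- a fixed involution
  obtain ⟨e, he, he1, hαe⟩ : ∃ e : P, e * e = 1 ∧ e ≠ 1 ∧ α e = e := by
    by_contra! hh
    refine hα1 (eq_one_of_two_pow (k := 3) (by decide) ?_ hj)
    refine hker _ (pow_mem hαA 3) fun x hx => ?_
    rcases eq_or_ne x 1 with rfl | hx1
    · exact map_one _
    have hax : α x * α x = 1 := by rw [← map_mul, hx, map_one]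
    have hax1 : α x ≠ 1 := fun h => hx1 (α.injective (h.trans (map_one α).symm))
    have haax : α (α x) * α (α x) = 1 := by rw [← map_mul, hax, map_one]
    rw [show (α ^ 3) x = α (α (α x)) from rfl]
    rcases hfour x (α x) hx hax hx1 hax1 (Ne.symm (hh x hx hx1)) (α (α x)) haax with h | h | h | h
    · exact absurd (α.injective (h.trans (map_one α).symm)) hax1
    · exfalso
      refine hh (x * α x) (by rw [mul_assoc, ← mul_assoc (α x) x, hc (α x) x, mul_assoc x (α x), hax,
        mul_one, hx]) ?_ (by rw [map_mul, h, hc])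
      intro h1
      exact hh x hx hx1 (mul_left_cancel (h1.trans hx.symm))
    · exact absurd (α.injective h) (hh x hx hx1)
    · rw [h, map_mul, h, hc x (α x), ← mul_assoc, hax, one_mul]
  set f := t e with hfdef
  have hf : f * f = 1 := by rw [hfdef, ← map_mul, he, map_one]
  have hf1 : f ≠ 1 := fun h => he1 (t.injective (h.trans (map_one t).symm))
  have hef : e ≠ f := fun h => he1 (htfree e he h.symm)
  have htf : t f = e * f := by
    have htt : t f * t f = 1 := by rw [← map_mul, hf, map_one]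
    rcases hfour e f he hf he1 hf1 hef (t f) htt with h | h | h | h
    · exact absurd (t.injective (h.trans (map_one t).symm)) hf1
    · exfalso
      refine htfree (e * f) ?_ (by rw [map_mul, h, hc]) |> fun h1 => hef (mul_left_cancel (he.trans h1.symm))
      rw [mul_assoc, ← mul_assoc f e f, hc f e, mul_assoc e f f, hf, mul_one, he]
    · exact absurd (htfree f hf h) hf1
    · exact h
  have hαf : α f = e * f := by
    have haf : α f * α f = 1 := by rw [← map_mul, hf, map_one]
    rcases hfour e f he hf he1 hf1 hef (α f) haf with h | h | h | h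
    · exact absurd (α.injective (h.trans (map_one α).symm)) hf1
    · exact absurd (α.injective (hαe.trans h.symm)) hef
    · refine absurd (hker α hαA fun x hx => ?_) hα1
      rcases hfour e f he hf he1 hf1 hef x hx with rfl | rfl | rfl | rfl
      exacts [map_one α, hαe, h, by rw [map_mul, hαe, h]]
    · exact h
  have hee : ∀ x : P, e * (e * x) = x := fun x => by rw [← mul_assoc, he, one_mul]
  have hext : ∀ a ∈ A, a e = e → a f = f → a = 1 := fun a ha h1 h2 => hker a ha fun x hx => by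
    rcases hfour e f he hf he1 hf1 hef x hx with rfl | rfl | rfl | rfl
    exacts [map_one a, h1, h2, by rw [map_mul, h1, h2]]
  have hα2 : α * α = 1 := hext _ (mul_mem hαA hαA) (by rw [MulAut.mul_apply, hαe, hαe])
    (by rw [MulAut.mul_apply, hαf, map_mul, hαe, hαf, hee])
  have hrel : α * t * α * t = 1 := hext _ (mul_mem (mul_mem (mul_mem hαA ht) hαA) ht)
    (by
      show α (t (α (t e))) = e
      rw [← hfdef, hαf, map_mul, ← hfdef, htf, ← mul_assoc, hc f e, mul_assoc, hf, mul_one, hαe])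
    (by
      show α (t (α (t f))) = f
      rw [htf, map_mul, hαe, hαf, hee, htf, map_mul, hαe, hαf, hee])
  -- the square of `g`
  have hg2 : g * g ∈ P := hC (mem_centralizerIn.2 ⟨mul_mem hgS hgS, fun x hx => by
    have h1 : g * (g * x * g⁻¹) * g⁻¹ = x :=
      congrArg (fun φ : MulAut P => ((φ ⟨x, hx⟩ : P) : Ω)) hα2
    calc x * (g * g) = g * (g * x * g⁻¹) * g⁻¹ * (g * g) := by rw [h1]
      _ = g * g * x := by group⟩)
  set x : P := ⟨g * g, hg2⟩
  have hαx : α x = x := Subtype.ext (show g * (g * g) * g⁻¹ = g * g by group)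
  set w := x * t x * t (t x) with hw
  have ht3 : t * (t * t) = 1 := hext _ (mul_mem ht (mul_mem ht ht))
    (by show t (t (t e)) = e; rw [← hfdef, htf, map_mul, ← hfdef, htf, hc e f, ← mul_assoc, hf, one_mul])
    (by
      show t (t (t f)) = f
      rw [htf, map_mul, ← hfdef, htf, hc e f, ← mul_assoc, hf, one_mul, ← hfdef])
  have htw : t w = w := by
    have h1 : t (t (t x)) = x := congrArg (fun φ : MulAut P => φ x) ht3
    rw [hw, map_mul, map_mul, h1, hc (t x * t (t x)) x, mul_assoc]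
  have hw1 : w = 1 := by
    obtain ⟨i, hi⟩ := hPp w
    induction i with
    | zero => simpa using hi
    | succ i ih =>
      refine ih (htfree _ ?_ ?_)
      · rw [← pow_two, ← pow_mul, ← pow_succ]; exact hi
      · rw [map_pow, htw]
  set y := (t x)⁻¹ with hy
  have hy' : y * α y = x := by
    have h1 : α (t x) = t (t x) := by
      have hr : α * t = t⁻¹ * α⁻¹ := by
        rw [eq_comm, ← mul_inv_rev, inv_eq_iff_mul_eq_one, ← mul_assoc]; exact hrel
      have h1 : α (t x) = t⁻¹ (α⁻¹ x) := congrArg (fun φ : MulAut P => φ x) hr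
      rw [h1, inv_eq_of_mul_eq_one_right hα2, hαx, inv_eq_of_mul_eq_one_right ht3]
      rfl
    rw [hy, map_inv, h1, ← mul_inv_rev, hc (t (t x)), inv_eq_iff_mul_eq_one, mul_assoc, hc (t (t x)),
      ← mul_assoc, hc (t x) x]
    exact hw1
  clear_value f
  clear_value y
  -- an involution outside `P` and the subgroup of order eight
  set g1 := g * ((y : P) : Ω)⁻¹ with hg1
  have hg1P : g1 ∉ P := fun h => hgP ((P.mul_mem_cancel_right (inv_mem y.2)).1 h)
  have hg1sq : g1 * g1 = 1 := by
    have h1 : ((y : P) : Ω) * (g * (y : Ω) * g⁻¹) = g * g := congrArg Subtype.val hy'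
    calc g1 * g1 = (g * (y : Ω) * g⁻¹)⁻¹ * (g * g) * (y : Ω)⁻¹ := by rw [hg1]; group
      _ = (g * (y : Ω) * g⁻¹)⁻¹ * ((y : Ω) * (g * (y : Ω) * g⁻¹)) * (y : Ω)⁻¹ := by rw [h1]
      _ = (((α y)⁻¹ * (y * α y) * y⁻¹ : P) : Ω) := rfl
      _ = 1 := by rw [hc y (α y), inv_mul_cancel_left, mul_inv_cancel, Subgroup.coe_one]
  have hg1c : ∀ z : P, g1 * (z : Ω) * g1⁻¹ = ((α z : P) : Ω) := by
    intro z
    calc g1 * (z : Ω) * g1⁻¹ = g * ((y⁻¹ * z * y : P) : Ω) * g⁻¹ := by
          show g * (y : Ω)⁻¹ * z * (g * (y : Ω)⁻¹)⁻¹ = g * ((y : Ω)⁻¹ * z * y) * g⁻¹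
          group
      _ = ((α z : P) : Ω) := by rw [hc y⁻¹ z, inv_mul_cancel_right]; rfl
  set x0 := ((f : P) : Ω) * g1
  have hx0sq : x0 * x0 = ((e : P) : Ω) := by
    calc x0 * x0 = (f : Ω) * (g1 * (f : Ω) * g1⁻¹) * (g1 * g1) := by
          show (f : Ω) * g1 * ((f : Ω) * g1) = _
          group
      _ = ((e : P) : Ω) := by
        rw [hg1c, hαf, hg1sq, mul_one, ← Subgroup.coe_mul, hc e f, ← mul_assoc, hf, one_mul]
  have hg1S : g1 ∈ S := mul_mem hgS (inv_mem (hPS y.2))
  have hx0S : x0 ∈ S := mul_mem (hPS f.2) hg1S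
  have heΩ : (e : Ω) ≠ 1 := fun h => he1 (Subtype.ext h)
  have hord : orderOf x0 = 2 ^ (1 + 1) := orderOf_eq_prime_pow
    (by rw [pow_one, pow_two, hx0sq]; exact heΩ)
    (by rw [show (2 : ℕ) ^ (1 + 1) = 2 * 2 by norm_num, pow_mul, pow_two x0, hx0sq, pow_two,
      ← Subgroup.coe_mul, he, Subgroup.coe_one])
  have hnorm : g1 * x0 * g1⁻¹ = x0⁻¹ := by
    rw [eq_comm, inv_eq_iff_mul_eq_one]
    have hg1i : g1⁻¹ = g1 := inv_eq_of_mul_eq_one_right hg1sq
    calc x0 * (g1 * x0 * g1⁻¹) = (f : Ω) * (g1 * g1) * (f : Ω) * (g1 * g1⁻¹) := by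
          show (f : Ω) * g1 * (g1 * ((f : Ω) * g1) * g1⁻¹) = _
          group
      _ = 1 := by rw [hg1sq, mul_one, mul_inv_cancel, mul_one, ← Subgroup.coe_mul, hf, Subgroup.coe_one]
  have hle : Subgroup.zpowers g1 ≤ Subgroup.normalizer ((Subgroup.zpowers x0 : Subgroup Ω) : Set Ω) := by
    rw [Subgroup.zpowers_le, Subgroup.mem_normalizer_iff]
    intro z
    have hg1i : g1⁻¹ = g1 := inv_eq_of_mul_eq_one_right hg1sq
    have key : ∀ z ∈ Subgroup.zpowers x0, g1 * z * g1⁻¹ ∈ Subgroup.zpowers x0 := by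
      rintro _ ⟨i, rfl⟩
      show g1 * x0 ^ i * g1⁻¹ ∈ _
      rw [← conj_zpow, hnorm]
      exact zpow_mem (inv_mem (Subgroup.mem_zpowers x0)) i
    refine ⟨key z, fun h => ?_⟩
    have h2 := key _ h
    rwa [hg1i, show g1 * (g1 * z * g1) * g1 = (g1 * g1) * z * (g1 * g1) by group, hg1sq, one_mul,
      mul_one] at h2
  refine ⟨Subgroup.zpowers g1 ⊔ Subgroup.zpowers x0,
    sup_le (Subgroup.zpowers_le.2 hg1S) (Subgroup.zpowers_le.2 hx0S), ?_, g1,
    Subgroup.mem_sup_left (Subgroup.mem_zpowers _), x0,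
    Subgroup.mem_sup_right (Subgroup.mem_zpowers _), ?_⟩
  · have h1 := CfsgLib.ThompsonJ.card_sup_mul_card_inf _ _ hle
    have hog : orderOf g1 = 2 := orderOf_eq_prime (by rw [pow_two, hg1sq])
      fun h => hg1P (h ▸ P.one_mem)
    have hinf : Subgroup.zpowers g1 ⊓ Subgroup.zpowers x0 = ⊥ := by
      rw [eq_bot_iff]
      rintro z ⟨hz1, hz2⟩
      have hzz : z * z = 1 := by
        obtain ⟨i, rfl⟩ := hz1
        show g1 ^ i * g1 ^ i = 1
        rw [← (Commute.refl g1).mul_zpow, hg1sq, one_zpow]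
      rw [Subgroup.mem_bot]
      by_contra hz
      have hzg : z = g1 := by
        obtain ⟨i, rfl⟩ := hz1
        show g1 ^ i = g1
        rcases Int.even_or_odd i with ⟨r, rfl⟩ | ⟨r, rfl⟩
        · exact absurd (show g1 ^ (r + r) = 1 by
            rw [zpow_add, ← (Commute.refl g1).mul_zpow, hg1sq, one_zpow]) hz
        · rw [zpow_add, zpow_mul, zpow_one, show g1 ^ (2 : ℤ) = 1 by
            rw [zpow_two, hg1sq], one_zpow, one_mul]
      subst hzg
      obtain ⟨i, hi⟩ := hz2
      change x0 ^ i = g1 at hi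
      rcases Int.even_or_odd i with ⟨r, rfl⟩ | ⟨r, rfl⟩
      · refine hg1P (hi ▸ ?_)
        rw [zpow_add, ← (Commute.refl x0).mul_zpow, hx0sq]
        exact zpow_mem e.2 r
      · have h2 : x0 ^ (2 * r) = g1 * x0⁻¹ := by rw [← hi, zpow_add_one, mul_inv_cancel_right]
        rw [zpow_mul, zpow_two, hx0sq, ← Subgroup.coe_zpow] at h2
        have h3 : (f : Ω)⁻¹ = ((e ^ r : P) : Ω) := by
          rw [h2, show g1 * x0⁻¹ = (g1 * g1⁻¹) * (f : Ω)⁻¹ by
            show g1 * ((f : Ω) * g1)⁻¹ = _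
            rw [mul_inv_rev]; group, mul_inv_cancel, one_mul]
        have h4 : f⁻¹ = e ^ r := Subtype.ext (by simpa using h3)
        rw [inv_eq_of_mul_eq_one_right hf] at h4
        rcases Int.even_or_odd r with ⟨l, rfl⟩ | ⟨l, rfl⟩
        · exact hf1 (by rw [h4, zpow_add, ← (Commute.refl e).mul_zpow, he, one_zpow])
        · exact hef (by rw [h4, zpow_add, zpow_mul, zpow_two, he, one_zpow, one_mul, zpow_one])
    rw [hinf, Subgroup.card_bot, mul_one, Nat.card_zpowers, Nat.card_zpowers, hog, hord] at h1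
    exact h1
  · intro hcm
    have h1 : x0⁻¹ = x0 := by rw [← hnorm, hcm, mul_inv_cancel_right]
    exact heΩ (by rw [← hx0sq]; nth_rw 1 [← h1]; exact inv_mul_cancel x0)

theorem not_dihSemiQuat {X : Type u} [Group X]
    (hd : ¬ ∃ m : ℕ, Nonempty (X ≃* DihedralGroup m))
    (hq : ¬ ∃ m : ℕ, Nonempty (X ≃* QuaternionGroup m)) (hsd : ¬ Cfsg.IsQuasiDihedral X) :
    ¬ Minimal.DihSemiQuat X := by
  rintro (⟨k, e⟩ | ⟨k, hc, a, b, ha, hb, hab⟩ | ⟨k, e⟩)
  · exact hd ⟨_, e⟩
  · exact hsd ⟨k + 3, by omega, hc, a, b, ha, hb, by simpa using hab⟩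
  · exact hq ⟨_, e⟩

/-- Saturated systems on the metacyclic 2-groups other than the exceptional ones are inner. -/
theorem inner_of_metacyclic_two (hS : IsPGroup 2 S) (hm : Cfsg.IsMetacyclic S)
    (hd : ¬ ∃ m : ℕ, Nonempty (↥S ≃* DihedralGroup m))
    (hq : ¬ ∃ m : ℕ, Nonempty (↥S ≃* QuaternionGroup m)) (hsd : ¬ Cfsg.IsQuasiDihedral ↥S)
    (hh : ¬ ∃ n : ℕ, Nonempty (↥S ≃* Multiplicative (ZMod (2 ^ n)) × Multiplicative (ZMod (2 ^ n))))
    (F : FusionSystem S) (hF : F.IsSaturated 2) :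
    ∀ P : Subgroup Ω, F.Hom P = (Cfsg.innerFusionSystem S).Hom P := by
  haveI : Fact (Nat.Prime 2) := ⟨Nat.prime_two⟩
  have hness : ∀ P : Subgroup Ω, ¬ F.IsEssential 2 P := by
    intro P hP
    obtain ⟨H, hHS, h8, a, ha, b, hb, hab⟩ := exists_nonabelian_eight_of_essential hS hm hF hP
    refine not_dihSemiQuat hd hq hsd (Minimal.dihSemiQuat hS (sectionalPRankLE_of_metacyclic hm)
      ⟨H.subgroupOf S, ?_⟩)
    refine dihedral_or_quaternion_of_card_eight
      (by rw [Nat.card_congr (Subgroup.subgroupOfEquivOfLe hHS).toEquiv, h8]) fun hcm => hab ?_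
    exact congrArg (fun w : H.subgroupOf S => ((w : S) : Ω))
      (isMulCommutative_iff.1 hcm ⟨⟨a, hHS ha⟩, ha⟩ ⟨⟨b, hHS hb⟩, hb⟩)
  have hAS : IsPGroup 2 (MulAut S) := by
    by_contra hA
    rcases Cfsg.Agent.S1896.result hS hm hA with h | h
    · exact hq ⟨2, h⟩
    · exact hh h
  intro P
  refine Set.Subset.antisymm (alperin hS hF (innerFusionSystem S) (fun Q hQ => ?_) P) ?_
  · rcases hQ with rfl | hQ
    swap
    · exact absurd hQ (hness Q)
    haveI := finite_autGroup F (le_refl Q)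
    obtain ⟨-, -, R, hR⟩ := centralized_automized_of_fullyNormalized hS hF (isFullyNormalized_top F)
    have hall : (R : Subgroup (F.autGroup Q)) = ⊤ :=
      (R.is_maximal' ((hAS.to_subgroup _).to_subgroup ⊤) le_top).symm
    intro α hα
    have := (hR ▸ hall ▸ Subgroup.mem_top (⟨α, hα⟩ : F.autGroup Q) :
      (⟨α, hα⟩ : F.autGroup Q) ∈ (autInducedBy Q Q).subgroupOf (F.autGroup Q))
    obtain ⟨g, hg, hgx⟩ := mem_autInducedBy_iff.1 this
    exact (mem_autGroup_iff _ le_rfl).2 ⟨le_rfl, g, hg, hgx⟩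
  · rintro φ ⟨hP, g, hg, hx⟩
    exact mem_of_conj hP hg hx

end CfsgLib.TwoGroups
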