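import Cfsg.Agent.Lib.TwoGroups.FoursCenterAbelian
import Cfsg.Agent.Lib.TwoGroups.NormalAbelian

/-!
2-groups with a central four-group which is the fixed point group of an involutory automorphism
commuting with a fixed-point-free automorphism of order three: the nonabelian ones have order 64
and one of two presentations.
-/

set_option autoImplicit false
set_option linter.unusedSectionVars false

open scoped commutatorElement

namespace CfsgLib.TwoGroups.FoursCenter

variable {T : Type*} [Group T] [Finite T]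

/-- The hypotheses. -/
structure Hyp (V : Subgroup T) (τ σ : T →* T) : Prop where
  two : IsPGroup 2 T
  central : ∀ v ∈ V, v ∈ Subgroup.center T
  card_V : Nat.card V = 4
  tau_tau : ∀ x, τ (τ x) = x
  sig_cube : ∀ x, σ (σ (σ x)) = x
  comm : ∀ x, τ (σ x) = σ (τ x)
  fix : ∀ x, τ x = x ↔ x ∈ V
  fpf : ∀ x, σ x = x → x = 1
  cls : ∀ x y : T, ⁅x, y⁆ ∈ Subgroup.center T
  csig : ∀ x, Commute x (σ x)

/-- The relations of the two groups of order 64; `b` chooses between them. -/
structure Rels {M : Type*} [Group M] (b : Bool) (x₁ x₂ y₁ y₂ c₁ c₂ : M) : Prop where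
  c₁_sq : c₁ * c₁ = 1
  c₂_sq : c₂ * c₂ = 1
  c_comm : Commute c₁ c₂
  c₁x₁ : Commute c₁ x₁
  c₁x₂ : Commute c₁ x₂
  c₁y₁ : Commute c₁ y₁
  c₁y₂ : Commute c₁ y₂
  c₂x₁ : Commute c₂ x₁
  c₂x₂ : Commute c₂ x₂
  c₂y₁ : Commute c₂ y₁
  c₂y₂ : Commute c₂ y₂
  x₁_sq : x₁ * x₁ = c₁
  x₂_sq : x₂ * x₂ = c₂
  y₁_sq : y₁ * y₁ = if b then c₂ else 1
  y₂_sq : y₂ * y₂ = if b then c₁ * c₂ else 1
  x_comm : Commute x₁ x₂
  y_comm : Commute y₁ y₂
  xy₁₁ : x₁ * y₁ = y₁ * x₁ * c₁
  xy₂₂ : x₂ * y₂ = y₂ * x₂ * c₂
  xy₁₂ : x₁ * y₂ = y₂ * x₁ * (c₁ * c₂)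
  xy₂₁ : x₂ * y₁ = y₁ * x₂ * (c₁ * c₂)

namespace Hyp

variable {V : Subgroup T} {τ σ : T →* T} (h : Hyp V τ σ)

include h

theorem sig_inj : Function.Injective σ := fun a b hab => by
  rw [← h.sig_cube a, hab, h.sig_cube]

theorem sig_mem {v : T} (hv : v ∈ V) : σ v ∈ V :=
  (h.fix _).1 (by rw [h.comm, (h.fix v).2 hv])

theorem V_sq {v : T} (hv : v ∈ V) : v * v = 1 := by
  by_cases hv1 : v = 1
  · rw [hv1, one_mul]
  have hd : orderOf v ∣ 4 := h.card_V ▸ Subgroup.orderOf_dvd_natCard V hv
  have h4 : v ^ 4 = 1 := orderOf_dvd_iff_pow_eq_one.1 hd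
  have hvc : Commute v (σ v) := h.csig v
  rcases four_eq h.fpf h.sig_inj (K := V) (fun x hx => h.sig_mem hx) h.card_V hv hv1
    (v * v) (V.mul_mem hv hv) with e | e | e | e
  · exact e
  · exact absurd (mul_eq_left.1 e) hv1
  · exfalso
    have e' : σ v = v ^ 2 := by rw [pow_two, e]
    have e8 : v ^ 8 = v := by
      have := h.sig_cube v
      simp only [e', map_pow, ← pow_mul] at this
      exact this
    rw [show 8 = 4 * 2 from rfl, pow_mul, h4, one_pow] at e8
    exact hv1 e8.symm
  · exact absurd (h.fpf v (mul_left_cancel e).symm) hv1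

theorem four {u : T} (hu : u ∈ V) (hu1 : u ≠ 1) {v : T} (hv : v ∈ V) :
    v = 1 ∨ v = u ∨ v = σ u ∨ v = u * σ u :=
  four_eq h.fpf h.sig_inj (fun x hx => h.sig_mem hx) h.card_V hu hu1 v hv

theorem sig_sig (a : T) : σ (σ a) = (a * σ a)⁻¹ := by
  have hp : a * σ a * σ (σ a) = 1 := by
    refine h.fpf _ ?_
    have h1 : Commute a (σ a) := h.csig a
    have h2 : Commute a (σ (σ a)) := by
      have := (h.csig (σ (σ a))).symm
      rwa [h.sig_cube] at this
    rw [map_mul, map_mul, h.sig_cube]
    exact (h1.mul_right h2).eq.symm.trans (mul_assoc a _ _).symm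
  exact eq_inv_of_mul_eq_one_right hp

theorem center_tau {z : T} (hz : z ∈ Subgroup.center T) : τ z ∈ Subgroup.center T := by
  rw [Subgroup.mem_center_iff] at hz ⊢
  intro g
  rw [← h.tau_tau g, ← map_mul, ← map_mul, hz]

theorem center_sig {z : T} (hz : z ∈ Subgroup.center T) : σ z ∈ Subgroup.center T := by
  rw [Subgroup.mem_center_iff] at hz ⊢
  intro g
  rw [← h.sig_cube g, ← map_mul, ← map_mul, hz]

theorem fix_card : Nat.card (τ.eqLocus (MonoidHom.id T)) = 4 := by
  rw [← h.card_V]
  congr 1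
  rw [show τ.eqLocus (MonoidHom.id T) = V from Subgroup.ext fun x => h.fix x]

/-- A group generated over the centre by `g` and `σ g` is abelian. -/
theorem commute_gen {g a b : T} {i j i' j' : ℤ}
    (ha : (g ^ i * σ g ^ j)⁻¹ * a ∈ Subgroup.center T)
    (hb : (g ^ i' * σ g ^ j')⁻¹ * b ∈ Subgroup.center T) : Commute a b := by
  have hc : Commute (g ^ i * σ g ^ j) (g ^ i' * σ g ^ j') := by
    have hg : Commute g (σ g) := h.csig g
    exact (((Commute.refl g).zpow_zpow i i').mul_right (hg.zpow_zpow i j')).mul_left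
      ((hg.symm.zpow_zpow j i').mul_right ((Commute.refl (σ g)).zpow_zpow j j'))
  set z := (g ^ i * σ g ^ j)⁻¹ * a with hz
  set z' := (g ^ i' * σ g ^ j')⁻¹ * b with hz'
  have e : a = g ^ i * σ g ^ j * z := by rw [hz]; group
  have e' : b = g ^ i' * σ g ^ j' * z' := by rw [hz']; group
  have cz : ∀ t, Commute z t := fun t => (Subgroup.mem_center_iff.1 ha t).symm
  have cz' : ∀ t, Commute t z' := fun t => Subgroup.mem_center_iff.1 hb t
  rw [e, e']
  exact (hc.mul_right (cz' _)).mul_left ((cz _).mul_right (cz' _))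

/-- In the nonabelian case `τ` inverts the centre. -/
theorem inverts_center (hnc : ¬ ∀ a b : T, a * b = b * a) {z : T} (hz : z ∈ Subgroup.center T) :
    τ z = z⁻¹ := by
  by_contra hcon
  let instC : CommGroup (Subgroup.center T) :=
    { (inferInstance : Group (Subgroup.center T)) with
      mul_comm := fun a b => Subtype.ext (Subgroup.mem_center_iff.1 b.2 (a : T)) }
  let τZ : Subgroup.center T →* Subgroup.center T :=
    { toFun := fun w => ⟨τ w, h.center_tau w.2⟩
      map_one' := Subtype.ext (map_one τ)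
      map_mul' := fun a b => Subtype.ext (map_mul τ _ _) }
  let D : Subgroup.center T →* Subgroup.center T := MonoidHom.id (Subgroup.center T) * τZ
  let E : Subgroup.center T →* Subgroup.center T := MonoidHom.id (Subgroup.center T) / τZ
  have Dval : ∀ w : Subgroup.center T, ((D w : Subgroup.center T) : T) = (w : T) * τ w := fun w => rfl
  have Eval : ∀ w : Subgroup.center T, ((E w : Subgroup.center T) : T) = (w : T) * (τ w)⁻¹ := by
    intro w
    show (((w / τZ w : Subgroup.center T)) : T) = _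
    rw [div_eq_mul_inv]
    rfl
  have Dfix : ∀ w, ((D w : Subgroup.center T) : T) ∈ V := fun w => by
    rw [← h.fix, Dval, map_mul, h.tau_tau]
    exact Subgroup.mem_center_iff.1 w.2 _
  have hne : ((D ⟨z, hz⟩ : Subgroup.center T) : T) ≠ 1 := fun e => by
    rw [Dval] at e
    exact hcon (eq_inv_of_mul_eq_one_right e)
  have hDrange : Nat.card D.range = 4 := by
    rw [← h.card_V]
    refine Nat.card_congr (Equiv.ofBijective (fun w => ⟨((w : Subgroup.center T) : T), ?_⟩) ⟨?_, ?_⟩)
    · obtain ⟨w', hw'⟩ := w.2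
      rw [← hw']; exact Dfix w'
    · intro a b hab
      exact Subtype.ext (Subtype.ext (congrArg Subtype.val hab :))
    · rintro ⟨v, hv⟩
      have hs : σ ((D ⟨z, hz⟩ : Subgroup.center T) : T) =
          ((D ⟨σ z, h.center_sig hz⟩ : Subgroup.center T) : T) := by
        rw [Dval, Dval, map_mul, h.comm]
      rcases h.four (Dfix ⟨z, hz⟩) hne hv with e | e | e | e
      · exact ⟨1, Subtype.ext e.symm⟩
      · exact ⟨⟨_, ⟨⟨z, hz⟩, rfl⟩⟩, Subtype.ext e.symm⟩
      · exact ⟨⟨_, ⟨⟨σ z, h.center_sig hz⟩, rfl⟩⟩, Subtype.ext (e.trans hs).symm⟩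
      · exact ⟨⟨_, ⟨⟨z, hz⟩ * ⟨σ z, h.center_sig hz⟩, map_mul D _ _⟩⟩,
          Subtype.ext (e.trans (by rw [hs]; rfl)).symm⟩
  have hEker : Nat.card E.ker = 4 := by
    rw [← h.card_V]
    refine Nat.card_congr
      { toFun := fun w => ⟨((w : Subgroup.center T) : T), (h.fix _).1 (by
          have := congrArg Subtype.val w.2
          rw [Eval] at this
          exact (mul_inv_eq_one.1 this).symm)⟩
        invFun := fun v => ⟨⟨(v : T), h.central _ v.2⟩, Subtype.ext (by
          rw [Eval, (h.fix _).2 v.2, mul_inv_cancel]; rfl)⟩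
        left_inv := fun w => rfl
        right_inv := fun v => rfl }
  have hle : E.range ≤ D.ker := by
    rintro _ ⟨w, rfl⟩
    refine Subtype.ext ?_
    rw [Dval, Eval, map_mul, map_inv, h.tau_tau, mul_assoc, ← mul_assoc (τ (w : T))⁻¹,
      inv_mul_cancel, one_mul, mul_inv_cancel]
    rfl
  have heq : E.range = D.ker := by
    refine Subgroup.eq_of_le_of_card_ge hle ?_
    have e1 := Subgroup.card_eq_card_quotient_mul_card_subgroup D.ker
    have e2 := Subgroup.card_eq_card_quotient_mul_card_subgroup E.ker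
    rw [Nat.card_congr (QuotientGroup.quotientKerEquivRange D).toEquiv, hDrange] at e1
    rw [Nat.card_congr (QuotientGroup.quotientKerEquivRange E).toEquiv, hEker, e1] at e2
    omega
  -- the induced involution on the central quotient has no fixed points
  let τb : T ⧸ Subgroup.center T →* T ⧸ Subgroup.center T :=
    QuotientGroup.map _ _ τ (fun w hw => h.center_tau hw)
  have hfp : MonoidHom.FixedPointFree τb := by
    intro q hq
    obtain ⟨y, rfl⟩ := QuotientGroup.mk_surjective q
    have hy : y⁻¹ * τ y ∈ Subgroup.center T := QuotientGroup.eq.1 hq.symm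
    have hyk : (⟨_, hy⟩ : Subgroup.center T) ∈ D.ker := by
      refine Subtype.ext ?_
      rw [Dval]
      show y⁻¹ * τ y * τ (y⁻¹ * τ y) = 1
      rw [map_mul, map_inv, h.tau_tau]
      group
    rw [← heq] at hyk
    obtain ⟨u, hu⟩ := hyk
    have hu' : (u : T) * (τ u)⁻¹ = y⁻¹ * τ y := (Eval u).symm.trans (congrArg Subtype.val hu)
    have hfix : τ (y * u) = y * u := by
      calc τ (y * u) = y * (y⁻¹ * τ y) * τ u := by rw [map_mul]; group
        _ = y * u := by rw [← hu']; group
    have := (Subgroup.center T).mul_mem (h.central _ ((h.fix _).1 hfix))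
      ((Subgroup.center T).inv_mem u.2)
    rw [mul_inv_cancel_right] at this
    exact (QuotientGroup.eq_one_iff y).2 this
  have hodd := hfp.odd_card_of_involutive (fun q => by
    obtain ⟨y, rfl⟩ := QuotientGroup.mk_surjective q
    exact congrArg QuotientGroup.mk (h.tau_tau y))
  have : Fact (Nat.Prime 2) := ⟨Nat.prime_two⟩
  rcases (h.two.to_quotient (Subgroup.center T)).card_eq_or_dvd with h1 | h2
  · refine hnc fun a b => ?_
    have hb : b ∈ Subgroup.center T := (QuotientGroup.eq_one_iff b).1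
      ((Nat.card_eq_one_iff_unique.1 h1).1.elim _ _)
    exact Subgroup.mem_center_iff.1 hb a
  · exact (Nat.not_even_iff_odd.2 hodd) (even_iff_two_dvd.2 h2)

/-- The nonabelian case: structure of order 64 with the two possible presentations. -/
theorem nonabelian (hnc : ¬ ∀ a b : T, a * b = b * a) :
    Nat.card T = 64 ∧ (∀ z ∈ Subgroup.center T, z ∈ V) ∧
      ∃ (b : Bool) (x₁ x₂ y₁ y₂ c₁ c₂ : T), Rels b x₁ x₂ y₁ y₂ c₁ c₂ ∧
        Subgroup.closure {x₁, x₂, y₁, y₂} = ⊤ ∧
        ∀ v ∈ V, v = 1 ∨ v = c₁ ∨ v = c₂ ∨ v = c₁ * c₂ := by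
  classical
  have hp2 : Fact (Nat.Prime 2) := ⟨Nat.prime_two⟩
  have hinv : ∀ z ∈ Subgroup.center T, τ z = z⁻¹ := fun z hz => h.inverts_center hnc hz
  have hΩ : ∀ z ∈ Subgroup.center T, z * z = 1 → z ∈ V := fun z hz hz2 =>
    (h.fix z).1 ((hinv z hz).trans (inv_eq_of_mul_eq_one_right hz2))
  set Z := Subgroup.center T with hZdef
  let τb : T ⧸ Z →* T ⧸ Z := QuotientGroup.map _ _ τ (fun w hw => h.center_tau hw)
  let σb : T ⧸ Z →* T ⧸ Z := QuotientGroup.map _ _ σ (fun w hw => h.center_sig hw)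
  have hσb : ∀ q, σb q = q → q = 1 := by
    intro q hq
    obtain ⟨y, rfl⟩ := QuotientGroup.mk_surjective q
    have hy : y⁻¹ * σ y ∈ Z := QuotientGroup.eq.1 hq.symm
    let f : Z → Z := fun u =>
      ⟨(u : T)⁻¹ * σ u, Z.mul_mem (Z.inv_mem u.2) (h.center_sig u.2)⟩
    have hf : Function.Injective f := by
      intro a b hab
      have e : (a : T)⁻¹ * σ a = (b : T)⁻¹ * σ b := congrArg Subtype.val hab
      have e' : σ ((b : T)⁻¹ * a) = (b : T)⁻¹ * a := by
        calc σ ((b : T)⁻¹ * a) = (σ (b : T))⁻¹ * ((a : T) * ((a : T)⁻¹ * σ a)) := by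
              rw [map_mul, map_inv]; group
          _ = (σ (b : T))⁻¹ * ((a : T) * ((b : T)⁻¹ * σ b)) := by rw [e]
          _ = (σ (b : T))⁻¹ * (σ b * ((b : T)⁻¹ * a)) := by
              congr 1
              have hb := Subgroup.mem_center_iff.1 b.2
              have hsb := Subgroup.mem_center_iff.1 (h.center_sig b.2)
              calc (a : T) * ((b : T)⁻¹ * σ b) = (a : T) * (b : T)⁻¹ * σ b := by group
                _ = σ b * ((a : T) * (b : T)⁻¹) := hsb _
                _ = σ b * ((b : T)⁻¹ * a) := by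
                    congr 1
                    exact Subgroup.mem_center_iff.1 (Z.inv_mem b.2) _
          _ = (b : T)⁻¹ * a := by group
      exact Subtype.ext (inv_mul_eq_one.1 (h.fpf _ e')).symm
    obtain ⟨u, hu⟩ := Finite.surjective_of_injective hf ⟨_, hy⟩
    have hu' : (u : T)⁻¹ * σ u = y⁻¹ * σ y := congrArg Subtype.val hu
    have : σ (y * (u : T)⁻¹) = y * (u : T)⁻¹ := by
      rw [map_mul, map_inv]
      calc σ y * (σ (u : T))⁻¹ = y * (y⁻¹ * σ y) * (σ (u : T))⁻¹ := by group
        _ = y * ((u : T)⁻¹ * σ u) * (σ (u : T))⁻¹ := by rw [hu']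
        _ = y * (u : T)⁻¹ := by group
    have := h.fpf _ this
    rw [mul_inv_eq_one] at this
    exact (QuotientGroup.eq_one_iff y).2 (this ▸ u.2)
  have hTbcomm : ∀ p q : T ⧸ Z, p * q = q * p := by
    intro p q
    obtain ⟨a, rfl⟩ := QuotientGroup.mk_surjective p
    obtain ⟨b, rfl⟩ := QuotientGroup.mk_surjective q
    rw [← QuotientGroup.mk_mul, ← QuotientGroup.mk_mul, QuotientGroup.eq]
    have := h.cls b⁻¹ a⁻¹
    rwa [commutatorElement_def, inv_inv, inv_inv, mul_assoc, ← mul_inv_rev] at this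
  let instQ : CommGroup (T ⧸ Z) := { (inferInstance : Group (T ⧸ Z)) with mul_comm := hTbcomm }
  -- the fixed points of the induced involution
  set Xb : Subgroup (T ⧸ Z) := τb.eqLocus (MonoidHom.id _) with hXb
  set X : Subgroup T := Xb.comap (QuotientGroup.mk' Z) with hX
  have memX : ∀ y, y ∈ X ↔ y⁻¹ * τ y ∈ Z := fun y =>
    ⟨fun hy => QuotientGroup.eq.1 (Eq.symm hy), fun hy => (QuotientGroup.eq.2 hy).symm⟩
  let F : X →* Z :=
    { toFun := fun y => ⟨(y : T)⁻¹ * τ y, (memX _).1 y.2⟩
      map_one' := Subtype.ext (by simp)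
      map_mul' := fun a b => Subtype.ext (by
        show ((a : T) * b)⁻¹ * τ ((a : T) * b) = ((a : T)⁻¹ * τ a) * ((b : T)⁻¹ * τ b)
        have ha := Subgroup.mem_center_iff.1 ((memX _).1 a.2)
        calc ((a : T) * b)⁻¹ * τ ((a : T) * b) = ((b : T)⁻¹ * ((a : T)⁻¹ * τ a)) * τ b := by
              rw [map_mul]; group
          _ = (((a : T)⁻¹ * τ a) * (b : T)⁻¹) * τ b := by rw [ha]
          _ = _ := by group) }
  have hFker : Nat.card F.ker ≤ 4 := by
    rw [← h.card_V]
    refine Nat.card_le_card_of_injective (fun w => (⟨((w : X) : T), ?_⟩ : V)) ?_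
    · have := congrArg Subtype.val w.2
      exact (h.fix _).1 (inv_mul_eq_one.1 this).symm
    · intro a b hab
      exact Subtype.ext (Subtype.ext (congrArg Subtype.val hab :))
  have hXcard : Nat.card X = Nat.card Z * Nat.card Xb := by
    have := Nat.card_congr (QuotientGroup.preimageMkEquivSubgroupProdSet Z (Xb : Set (T ⧸ Z)))
    rw [Nat.card_prod] at this
    exact this
  have hXb4 : Nat.card Xb ≤ 4 := by
    have e := Subgroup.card_eq_card_quotient_mul_card_subgroup F.ker
    rw [Nat.card_congr (QuotientGroup.quotientKerEquivRange F).toEquiv, hXcard] at e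
    have : Nat.card F.range ≤ Nat.card Z := Subgroup.card_le_card_group _
    have hpos : 0 < Nat.card Z := Nat.card_pos
    have : Nat.card Z * Nat.card Xb ≤ Nat.card Z * 4 := by
      rw [e]; exact Nat.mul_le_mul this hFker
    exact Nat.le_of_mul_le_mul_left this hpos
  have hσXb : ∀ q ∈ Xb, σb q ∈ Xb := by
    intro q hq
    obtain ⟨y, rfl⟩ := QuotientGroup.mk_surjective q
    exact (congrArg QuotientGroup.mk (h.comm y) :
      τb (σb (QuotientGroup.mk y)) = σb (τb (QuotientGroup.mk y))).trans (congrArg σb hq)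
  have hXb_eq : Nat.card Xb = 4 := by
    obtain ⟨k, hk⟩ := IsPGroup.iff_card.1 ((h.two.to_quotient Z).to_subgroup Xb)
    have hk2 : k ≤ 2 := by
      by_contra hc
      have : 2 ^ 3 ≤ 2 ^ k := Nat.pow_le_pow_right (by norm_num) (by omega)
      omega
    interval_cases k
    · exfalso
      have hfp : MonoidHom.FixedPointFree τb := by
        intro q hq
        have hq' : q ∈ Xb := hq
        have := (Nat.card_eq_one_iff_unique.1 (hk.trans (pow_zero 2))).1.elim
          (⟨q, hq'⟩ : Xb) 1
        exact congrArg Subtype.val this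
      have hodd := hfp.odd_card_of_involutive (fun q => by
        obtain ⟨y, rfl⟩ := QuotientGroup.mk_surjective q
        exact congrArg QuotientGroup.mk (h.tau_tau y))
      rcases (h.two.to_quotient Z).card_eq_or_dvd with h1 | h2
      · refine hnc fun a b => ?_
        have hb : b ∈ Z := (QuotientGroup.eq_one_iff b).1
          ((Nat.card_eq_one_iff_unique.1 h1).1.elim _ _)
        exact Subgroup.mem_center_iff.1 hb a
      · exact (Nat.not_even_iff_odd.2 hodd) (even_iff_two_dvd.2 h2)
    · exfalso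
      obtain ⟨a, b, hab, huniv⟩ := Nat.card_eq_two_iff.1 (hk.trans (pow_one 2))
      obtain ⟨u, hu1⟩ : ∃ u : Xb, u ≠ 1 := by
        by_cases ha : a = 1
        · exact ⟨b, fun hb => hab (ha.trans hb.symm)⟩
        · exact ⟨a, ha⟩
      have hmem : ∀ w : Xb, w = a ∨ w = b := fun w => by
        have hw := Set.mem_univ w
        rw [← huniv] at hw
        simpa using hw
      have hsu : (⟨σb u, hσXb _ u.2⟩ : Xb) ≠ 1 := fun e => hu1 (Subtype.ext (by
        have e' : σb (u : T ⧸ Z) = 1 := congrArg Subtype.val e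
        have h3 : σb (σb (σb (u : T ⧸ Z))) = (u : T ⧸ Z) := by
          obtain ⟨y, hy⟩ := QuotientGroup.mk_surjective (u : T ⧸ Z)
          rw [← hy]
          exact congrArg QuotientGroup.mk (h.sig_cube y)
        rw [e', map_one, map_one] at h3
        exact h3.symm))
      have hsame : (⟨σb u, hσXb _ u.2⟩ : Xb) = u := by
        rcases hmem ⟨σb u, hσXb _ u.2⟩ with e | e <;> rcases hmem u with e' | e' <;>
          rcases hmem 1 with e'' | e''
        all_goals first
          | exact e.trans e'.symm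
          | exact absurd (e.trans e''.symm) hsu
          | exact absurd (e'.trans e''.symm) hu1
      exact hu1 (Subtype.ext (hσb _ (congrArg Subtype.val hsame)))
    · exact hk.trans (by norm_num)
  have hAb : AHyp τb σb :=
    { two := h.two.to_quotient Z
      tau_tau := fun q => by
        obtain ⟨y, rfl⟩ := QuotientGroup.mk_surjective q
        exact congrArg QuotientGroup.mk (h.tau_tau y)
      sig_cube := fun q => by
        obtain ⟨y, rfl⟩ := QuotientGroup.mk_surjective q
        exact congrArg QuotientGroup.mk (h.sig_cube y)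
      comm := fun q => by
        obtain ⟨y, rfl⟩ := QuotientGroup.mk_surjective q
        exact congrArg QuotientGroup.mk (h.comm y)
      fpf := hσb
      card_fix := hXb_eq }
  obtain ⟨hQ16, hQexp⟩ : Nat.card (T ⧸ Z) = 16 ∧ ∀ q : T ⧸ Z, q ^ 2 = 1 := by
    rcases hAb.cases with hc | ⟨-, n, g, -, -, hgen⟩
    · exact hc
    · exfalso
      obtain ⟨g', rfl⟩ := QuotientGroup.mk_surjective g
      refine hnc fun a b => ?_
      obtain ⟨i, j, hij⟩ := hgen (QuotientGroup.mk a)
      obtain ⟨i', j', hij'⟩ := hgen (QuotientGroup.mk b)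
      exact h.commute_gen (g := g') (QuotientGroup.eq.1 hij.symm) (QuotientGroup.eq.1 hij'.symm)
  have hsq : ∀ a : T, a * a ∈ Z := fun a =>
    (QuotientGroup.eq_one_iff _).1 (by rw [QuotientGroup.mk_mul, ← pow_two]; exact hQexp _)
  -- every commutator lies in `V`
  have hk_ex : ∀ a b : T, ∃ k ∈ V, a * b = b * a * k := by
    intro a b
    refine ⟨a⁻¹ * b⁻¹ * a * b, ?_, by group⟩
    have hk : a⁻¹ * b⁻¹ * a * b ∈ Z := by
      have := h.cls a⁻¹ b⁻¹
      rwa [commutatorElement_def, inv_inv, inv_inv] at this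
    refine hΩ _ hk ?_
    have ha2 := Subgroup.mem_center_iff.1 (hsq a) b
    have hkc := Subgroup.mem_center_iff.1 hk
    set k := a⁻¹ * b⁻¹ * a * b with hkdef
    have hab : a * b = b * a * k := by rw [hkdef]; group
    have h1 : a * a * b = b * (a * a) * (k * k) := by
      calc a * a * b = a * (a * b) := by group
        _ = a * (b * a * k) := by rw [hab]
        _ = (a * b) * (a * k) := by group
        _ = b * a * k * (a * k) := by rw [hab]
        _ = b * a * (k * a) * k := by group
        _ = b * a * (a * k) * k := by rw [hkc a]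
        _ = _ := by group
    rw [← ha2] at h1
    exact (mul_eq_left.1 h1.symm)
  have hVc : ∀ v ∈ V, ∀ t, Commute v t := fun v hv t =>
    (Subgroup.mem_center_iff.1 (h.central v hv) t).symm
  -- `τ y = y * x`
  obtain ⟨y, hy⟩ : ∃ y : T, y ∉ X := by
    by_contra hc
    push Not at hc
    have : Xb = ⊤ := eq_top_iff.2 fun q _ => by
      obtain ⟨y, rfl⟩ := QuotientGroup.mk_surjective q
      exact hc y
    rw [this, Subgroup.card_top, hQ16] at hXb_eq
    omega
  set x := y⁻¹ * τ y with hxdef
  have hfX : ∀ g : T, g⁻¹ * τ g ∈ X := fun g => by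
    rw [memX]
    have e : τ (g⁻¹ * τ g) = (g⁻¹ * τ g)⁻¹ := by rw [map_mul, map_inv, h.tau_tau]; group
    rw [e]
    have := Z.inv_mem (hsq (g⁻¹ * τ g))
    rwa [mul_inv_rev] at this
  have hxX : x ∈ X := hfX y
  have hxZ : x ∉ Z := fun e => hy ((memX y).2 e)
  have hτy : τ y = y * x := by rw [hxdef]; group
  have hτx : τ x = x⁻¹ := by rw [hxdef, map_mul, map_inv, h.tau_tau]; group
  obtain ⟨k, hkV, hk⟩ := hk_ex x y
  -- applying `τ` to `y * y`
  have hkey : x * x = (y * y)⁻¹ * (y * y)⁻¹ * k := by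
    have e1 : y * x * (y * x) = (y * y)⁻¹ := by
      rw [← hτy, ← map_mul, hinv _ (hsq y)]
    have e2 : y * x * (y * x) = y * y * (x * x) * k := by
      calc y * x * (y * x) = y * (x * y) * x := by group
        _ = y * (y * x * k) * x := by rw [hk]
        _ = y * y * x * (k * x) := by group
        _ = y * y * x * (x * k) := by rw [(hVc k hkV x).eq]
        _ = _ := by group
    rw [e2] at e1
    calc x * x = (y * y)⁻¹ * (y * y * (x * x) * k) * k⁻¹ := by group
      _ = (y * y)⁻¹ * (y * y)⁻¹ * k⁻¹ := by rw [e1]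
      _ = _ := by rw [inv_eq_of_mul_eq_one_right (h.V_sq hkV)]
  -- `X` is abelian
  have hσX : ∀ g ∈ X, σ g ∈ X := fun g hg => hσXb _ hg
  have hτX : ∀ g ∈ X, τ g ∈ X := fun g hg => by
    show τb (τb (QuotientGroup.mk g)) = τb (QuotientGroup.mk g)
    exact congrArg τb hg
  have hXgen : ∀ g ∈ X, ∃ i j : ℤ, (x ^ i * σ x ^ j)⁻¹ * g ∈ Z := by
    intro g hg
    rcases four_eq (σ := σb) hσb hAb.sig_inj (K := Xb) hσXb hXb_eq
      (u := QuotientGroup.mk x) hxX (fun e => hxZ ((QuotientGroup.eq_one_iff x).1 e))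
      (QuotientGroup.mk g) hg with e | e | e | e
    · exact ⟨0, 0, by simpa using (QuotientGroup.eq_one_iff g).1 e⟩
    · exact ⟨1, 0, by simpa using QuotientGroup.eq.1 e.symm⟩
    · exact ⟨0, 1, by simpa using QuotientGroup.eq.1 e.symm⟩
    · exact ⟨1, 1, by simpa using QuotientGroup.eq.1 e.symm⟩
  have hXcomm : ∀ a b : X, a * b = b * a := fun a b => by
    obtain ⟨i, j, hij⟩ := hXgen a a.2
    obtain ⟨i', j', hij'⟩ := hXgen b b.2
    exact Subtype.ext (h.commute_gen hij hij')
  have hZX : Z ≤ X := fun z hz => (memX z).2 (Z.mul_mem (Z.inv_mem hz) (h.center_tau hz))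
  -- the centre is `V`
  have hZV : ∀ z ∈ Z, z ∈ V := by
    by_contra hc
    push Not at hc
    obtain ⟨z₀, hz₀, hz₀V⟩ := hc
    have hz2 : z₀ * z₀ ≠ 1 := fun e => hz₀V (hΩ _ hz₀ e)
    -- every element of `V` is a square in the centre
    have hVsq : ∀ v ∈ V, ∃ e ∈ Z, e * e = v := by
      have hex : ∃ m, z₀ ^ 2 ^ m = 1 := h.two z₀
      have hm := Nat.find_spec hex
      have hm2 : 2 ≤ Nat.find hex := by
        by_contra hc
        interval_cases hh : Nat.find hex
        · exact hz2 (by rw [pow_zero, pow_one] at hm; rw [hm, one_mul])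
        · exact hz2 (by rwa [pow_one, pow_two] at hm)
      set e₀ := z₀ ^ 2 ^ (Nat.find hex - 2) with he₀
      have he₀Z : e₀ ∈ Z := Z.pow_mem hz₀ _
      have hu : e₀ * e₀ = z₀ ^ 2 ^ (Nat.find hex - 1) := by
        rw [he₀, ← pow_add, ← two_mul, ← pow_succ']
        congr 2
        omega
      have hu1 : e₀ * e₀ ≠ 1 := by rw [hu]; exact Nat.find_min hex (by omega)
      have huV : e₀ * e₀ ∈ V := hΩ _ (Z.mul_mem he₀Z he₀Z) (by
        rw [hu, ← pow_add, ← two_mul, ← pow_succ', Nat.sub_add_cancel (by omega)]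
        exact hm)
      intro v hv
      rcases h.four huV hu1 hv with e | e | e | e
      · exact ⟨1, Z.one_mem, by rw [e, one_mul]⟩
      · exact ⟨e₀, he₀Z, e.symm⟩
      · exact ⟨σ e₀, h.center_sig he₀Z, by rw [e, map_mul]⟩
      · refine ⟨e₀ * σ e₀, Z.mul_mem he₀Z (h.center_sig he₀Z), ?_⟩
        rw [e, map_mul]
        calc e₀ * σ e₀ * (e₀ * σ e₀) = e₀ * (σ e₀ * e₀) * σ e₀ := by group
          _ = e₀ * (e₀ * σ e₀) * σ e₀ := by rw [Subgroup.mem_center_iff.1 he₀Z]
          _ = _ := by group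
    obtain ⟨e, heZ, hek⟩ := hVsq k hkV
    set w := (y * y)⁻¹ * e with hwdef
    have hwZ : w ∈ Z := Z.mul_mem (Z.inv_mem (hsq y)) heZ
    have hxw : x * x = w * w := by
      rw [hkey, hwdef, ← hek]
      have hc := Subgroup.mem_center_iff.1 heZ
      calc (y * y)⁻¹ * (y * y)⁻¹ * (e * e) = (y * y)⁻¹ * ((y * y)⁻¹ * e) * e := by group
        _ = (y * y)⁻¹ * (e * (y * y)⁻¹) * e := by rw [hc (y * y)⁻¹]
        _ = _ := by group
    let τX : X →* X :=
      { toFun := fun g => ⟨τ g, hτX g g.2⟩
        map_one' := Subtype.ext (map_one τ)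
        map_mul' := fun a b => Subtype.ext (map_mul τ _ _) }
    let σX : X →* X :=
      { toFun := fun g => ⟨σ g, hσX g g.2⟩
        map_one' := Subtype.ext (map_one σ)
        map_mul' := fun a b => Subtype.ext (map_mul σ _ _) }
    let instX : CommGroup X := { (inferInstance : Group X) with mul_comm := hXcomm }
    have hA : AHyp τX σX :=
      { two := h.two.to_subgroup X
        tau_tau := fun g => Subtype.ext (h.tau_tau g)
        sig_cube := fun g => Subtype.ext (h.sig_cube g)
        comm := fun g => Subtype.ext (h.comm g)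
        fpf := fun g hg => Subtype.ext (h.fpf _ (congrArg Subtype.val hg))
        card_fix := by
          rw [← h.card_V]
          exact Nat.card_congr
            { toFun := fun g => ⟨((g : X) : T), (h.fix _).1 (congrArg Subtype.val g.2)⟩
              invFun := fun v => ⟨⟨(v : T), hZX (h.central _ v.2)⟩, Subtype.ext ((h.fix _).2 v.2)⟩
              left_inv := fun g => rfl
              right_inv := fun v => rfl } }
    rcases hA.cases with ⟨-, hel⟩ | ⟨hω, -⟩
    · have := congrArg Subtype.val (hel ⟨z₀, hZX hz₀⟩)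
      exact hz2 (by rw [← pow_two]; exact this)
    · have hxwX : x * w⁻¹ ∈ X := X.mul_mem hxX (hZX (Z.inv_mem hwZ))
      have h2 : (⟨_, hxwX⟩ : X) ^ 2 = 1 := Subtype.ext (by
        show (x * w⁻¹) ^ 2 = 1
        have hc := Subgroup.mem_center_iff.1 (Z.inv_mem hwZ)
        calc (x * w⁻¹) ^ 2 = x * (w⁻¹ * x) * w⁻¹ := by rw [pow_two]; group
          _ = x * (x * w⁻¹) * w⁻¹ := by rw [hc x]
          _ = x * x * (w * w)⁻¹ := by group
          _ = 1 := by rw [hxw, mul_inv_cancel])
      have hmem := (h.fix _).1 (congrArg Subtype.val (hω _ h2))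
      refine hxZ ?_
      have := Z.mul_mem (h.central _ hmem) hwZ
      rwa [inv_mul_cancel_right] at this
  have hZeq : ∀ z, z ∈ Z ↔ z ∈ V := fun z => ⟨hZV z, h.central z⟩
  have hcardT : Nat.card T = 64 := by
    rw [Subgroup.card_eq_card_quotient_mul_card_subgroup Z, hQ16,
      Nat.card_congr (Equiv.subtypeEquivRight hZeq)]
    show 16 * Nat.card V = 64
    rw [h.card_V]
  have hy4 : (y * y)⁻¹ * (y * y)⁻¹ = 1 := by
    rw [← mul_inv_rev, h.V_sq (hZV _ (hsq y)), inv_one]
  have hxk : x * x = k := by rw [hkey, hy4, one_mul]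
  set c := x * x with hcdef
  have hcV : c ∈ V := hxk ▸ hkV
  have hc1 : c ≠ 1 := fun e => hxZ ((hZeq x).2 ((h.fix x).1
    (hτx.trans (inv_eq_of_mul_eq_one_right e))))
  have hσc : σ c ∈ V := h.sig_mem hcV
  have hVall : ∀ v ∈ V, v = 1 ∨ v = c ∨ v = σ c ∨ v = c * σ c := fun v hv => h.four hcV hc1 hv
  -- generation
  have hgen : Subgroup.closure {x, σ x, y, σ y} = ⊤ := by
    set S := Subgroup.closure ({x, σ x, y, σ y} : Set T) with hS
    have hxS : x ∈ S := Subgroup.subset_closure (by simp)
    have hσxS : σ x ∈ S := Subgroup.subset_closure (by simp)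
    have hyS : y ∈ S := Subgroup.subset_closure (by simp)
    have hσyS : σ y ∈ S := Subgroup.subset_closure (by simp)
    have hVS : ∀ v ∈ Z, v ∈ S := fun v hv => by
      rcases hVall v (hZV v hv) with e | e | e | e <;> rw [e]
      · exact S.one_mem
      · exact S.mul_mem hxS hxS
      · rw [hcdef, map_mul]; exact S.mul_mem hσxS hσxS
      · refine S.mul_mem (S.mul_mem hxS hxS) ?_
        rw [map_mul]; exact S.mul_mem hσxS hσxS
    have hXS : ∀ g ∈ X, g ∈ S := fun g hg => by
      obtain ⟨i, j, hij⟩ := hXgen g hg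
      have := S.mul_mem (S.mul_mem (S.zpow_mem hxS i) (S.zpow_mem hσxS j)) (hVS _ hij)
      rwa [mul_inv_cancel_left] at this
    refine eq_top_iff.2 fun g _ => ?_
    -- compare `g⁻¹ * τ g` with those of `1, y, σ y, y * σ y`
    obtain ⟨s, hs, hsg⟩ : ∃ s ∈ S, (QuotientGroup.mk (s⁻¹ * τ s) : T ⧸ Z) =
        QuotientGroup.mk (g⁻¹ * τ g) := by
      have hφ : ∀ a b : T, (QuotientGroup.mk ((a * b)⁻¹ * τ (a * b)) : T ⧸ Z) =
          QuotientGroup.mk (a⁻¹ * τ a) * QuotientGroup.mk (b⁻¹ * τ b) := fun a b => by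
        simp only [map_mul, QuotientGroup.mk_mul, QuotientGroup.mk_inv, mul_inv_rev]
        rw [hTbcomm (QuotientGroup.mk b)⁻¹, mul_mul_mul_comm]
      rcases four_eq (σ := σb) hσb hAb.sig_inj (K := Xb) hσXb hXb_eq
        (u := QuotientGroup.mk x) hxX (fun e => hxZ ((QuotientGroup.eq_one_iff x).1 e))
        (QuotientGroup.mk (g⁻¹ * τ g)) (hfX g) with e | e | e | e
      · exact ⟨1, S.one_mem, by rw [e, inv_one, one_mul, map_one, QuotientGroup.mk_one]⟩
      · exact ⟨y, hyS, e.symm⟩
      · refine ⟨σ y, hσyS, ?_⟩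
        rw [e, h.comm, ← map_inv, ← map_mul]
        rfl
      · refine ⟨y * σ y, S.mul_mem hyS hσyS, ?_⟩
        rw [e, hφ, h.comm, ← map_inv σ, ← map_mul σ]
        rfl
    have hgs : g * s⁻¹ ∈ X := by
      show τb (QuotientGroup.mk (g * s⁻¹)) = QuotientGroup.mk (g * s⁻¹)
      show (QuotientGroup.mk (τ (g * s⁻¹)) : T ⧸ Z) = QuotientGroup.mk (g * s⁻¹)
      have e : (QuotientGroup.mk (τ g) : T ⧸ Z) * (QuotientGroup.mk (τ s))⁻¹ =
          QuotientGroup.mk g * (QuotientGroup.mk s)⁻¹ := by
        simp only [QuotientGroup.mk_mul, QuotientGroup.mk_inv] at hsg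
        calc (QuotientGroup.mk (τ g) : T ⧸ Z) * (QuotientGroup.mk (τ s))⁻¹
            = QuotientGroup.mk g * ((QuotientGroup.mk g)⁻¹ * QuotientGroup.mk (τ g)) *
                (QuotientGroup.mk (τ s))⁻¹ := by group
          _ = QuotientGroup.mk g * ((QuotientGroup.mk s)⁻¹ * QuotientGroup.mk (τ s)) *
                (QuotientGroup.mk (τ s))⁻¹ := by rw [hsg]
          _ = _ := by group
      simpa only [map_mul, map_inv, QuotientGroup.mk_mul, QuotientGroup.mk_inv] using e
    have := S.mul_mem (hXS _ hgs) hs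
    rwa [inv_mul_cancel_right] at this
  -- commutation relations for any partner of `x`
  have hrel : ∀ y' : T, x * y' = y' * x * c →
      x * σ y' = σ y' * x * (c * σ c) ∧ σ x * y' = y' * σ x * (c * σ c) := by
    intro y' hy'
    obtain ⟨m, hm, hm'⟩ := hk_ex x (σ y')
    obtain ⟨l, hl, hl'⟩ := hk_ex (σ x) y'
    have hml : m = l := by
      have hcom : x * y' * (σ x * σ y') = σ x * σ y' * (x * y') := by
        rw [← map_mul]
        exact h.csig (x * y')
      have hl'' : y' * σ x = σ x * y' * l := by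
        rw [hl', mul_assoc, h.V_sq hl, mul_one]
      have e : x * y' * (σ x * σ y') = σ x * σ y' * (x * y') * (m * l) := by
        calc x * y' * (σ x * σ y') = x * (y' * σ x) * σ y' := by group
          _ = x * (σ x * y' * l) * σ y' := by rw [hl'']
          _ = x * σ x * y' * (l * σ y') := by group
          _ = x * σ x * y' * (σ y' * l) := by rw [(hVc l hl _).eq]
          _ = x * σ x * (y' * σ y') * l := by group
          _ = σ x * x * (σ y' * y') * l := by rw [(h.csig x).eq, (h.csig y').eq]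
          _ = σ x * (x * σ y') * y' * l := by group
          _ = σ x * (σ y' * x * m) * y' * l := by rw [hm']
          _ = σ x * σ y' * x * (m * y') * l := by group
          _ = σ x * σ y' * x * (y' * m) * l := by rw [(hVc m hm _).eq]
          _ = _ := by group
      rw [hcom] at e
      have e1 : m * l = 1 := mul_eq_left.1 e.symm
      rw [eq_inv_of_mul_eq_one_left e1, inv_eq_of_mul_eq_one_right (h.V_sq hl)]
    have hσm : σ m = σ c * l := by
      have e1 : σ x * σ (σ y') = σ (σ y') * σ x * σ m := by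
        rw [← map_mul, hm', map_mul, map_mul]
      have e2 : σ x * σ y' = σ y' * σ x * σ c := by
        rw [← map_mul, hy', map_mul, map_mul]
      have e3 : σ x * (y' * σ y') = y' * σ y' * σ x * (σ c * l) := by
        calc σ x * (y' * σ y') = σ x * y' * σ y' := by group
          _ = y' * σ x * l * σ y' := by rw [hl']
          _ = y' * σ x * (l * σ y') := by group
          _ = y' * σ x * (σ y' * l) := by rw [(hVc l hl _).eq]
          _ = y' * (σ x * σ y') * l := by group
          _ = y' * (σ y' * σ x * σ c) * l := by rw [e2]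
          _ = _ := by group
      have hv : σ c * l ∈ V := V.mul_mem hσc hl
      have e4 : σ x * (y' * σ y')⁻¹ = (y' * σ y')⁻¹ * σ x * (σ c * l) := by
        calc σ x * (y' * σ y')⁻¹
            = (y' * σ y')⁻¹ * (y' * σ y' * σ x) * (y' * σ y')⁻¹ := by group
          _ = (y' * σ y')⁻¹ * (σ x * (y' * σ y') * (σ c * l)) * (y' * σ y')⁻¹ := by
              rw [e3, mul_assoc (y' * σ y' * σ x), h.V_sq hv, mul_one]
          _ = (y' * σ y')⁻¹ * σ x * (y' * σ y') * ((σ c * l) * (y' * σ y')⁻¹) := by group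
          _ = (y' * σ y')⁻¹ * σ x * (y' * σ y') * ((y' * σ y')⁻¹ * (σ c * l)) := by
              rw [(hVc _ hv _).eq]
          _ = _ := by group
      rw [h.sig_sig y'] at e1
      exact mul_left_cancel (e1.symm.trans e4)
    rw [← hml] at hσm
    have hmeq : m = c * σ c := by
      rcases hVall m hm with e | e | e | e
      · exfalso
        rw [e, map_one, mul_one] at hσm
        exact hc1 (h.sig_inj (by rw [← hσm, map_one]))
      · exfalso
        rw [e] at hσm
        exact hc1 (mul_eq_left.1 hσm.symm)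
      · exfalso
        rw [e, h.V_sq hσc] at hσm
        exact hc1 (h.sig_inj (h.sig_inj (by rw [hσm, map_one, map_one])))
      · exact e
    exact ⟨by rw [← hmeq]; exact hm', by rw [← hmeq, hml]; exact hl'⟩
  -- the relations for a suitable partner
  have hmk : ∀ (b : Bool) (y' : T), x * y' = y' * x * c → y' * y' = (if b then σ c else 1) →
      Rels b x (σ x) y' (σ y') c (σ c) := by
    intro b y' hy' hsq'
    obtain ⟨r1, r2⟩ := hrel y' hy'
    exact
      { c₁_sq := h.V_sq hcV
        c₂_sq := h.V_sq hσc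
        c_comm := hVc c hcV _
        c₁x₁ := hVc c hcV _
        c₁x₂ := hVc c hcV _
        c₁y₁ := hVc c hcV _
        c₁y₂ := hVc c hcV _
        c₂x₁ := hVc _ hσc _
        c₂x₂ := hVc _ hσc _
        c₂y₁ := hVc _ hσc _
        c₂y₂ := hVc _ hσc _
        x₁_sq := rfl
        x₂_sq := (map_mul σ x x).symm
        y₁_sq := hsq'
        y₂_sq := by
          rw [← map_mul, hsq']
          cases b
          · simp
          · simp only [if_true]
            rw [h.sig_sig c, inv_eq_of_mul_eq_one_right (h.V_sq (V.mul_mem hcV hσc))]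
        x_comm := h.csig x
        y_comm := h.csig y'
        xy₁₁ := hy'
        xy₂₂ := by rw [← map_mul, hy', map_mul, map_mul]
        xy₁₂ := r1
        xy₂₁ := r2 }
  refine ⟨hcardT, hZV, ?_⟩
  have hxy : x * y = y * x * c := by rw [hxk]; exact hk
  obtain ⟨r1, r2⟩ := hrel y hxy
  set y' := y * σ x with hy'def
  have hy'rel : x * y' = y' * x * c := by
    calc x * y' = x * y * σ x := by rw [hy'def]; group
      _ = y * x * (c * σ x) := by rw [hxy]; group
      _ = y * x * (σ x * c) := by rw [(hVc c hcV _).eq]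
      _ = y * (x * σ x) * c := by group
      _ = y * (σ x * x) * c := by rw [(h.csig x).eq]
      _ = _ := by rw [hy'def]; group
  have hσc2 : σ x * σ x = σ c := (map_mul σ x x).symm
  have hy'sq : y' * y' = y * y * c := by
    calc y' * y' = y * (σ x * y) * σ x := by rw [hy'def]; group
      _ = y * (y * σ x * (c * σ c)) * σ x := by rw [r2]
      _ = y * y * σ x * ((c * σ c) * σ x) := by group
      _ = y * y * σ x * (σ x * (c * σ c)) := by rw [(hVc _ (V.mul_mem hcV hσc) _).eq]
      _ = y * y * (σ x * σ x) * (c * σ c) := by group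
      _ = y * y * (σ c * (c * σ c)) := by rw [hσc2]; group
      _ = y * y * c := by
          rw [(hVc c hcV (σ c)).eq, ← mul_assoc (σ c), h.V_sq hσc, one_mul]
  have hy2V : y * y ∈ V := hZV _ (hsq y)
  have hgen' : Subgroup.closure {x, σ x, y', σ y'} = ⊤ := by
    rw [eq_top_iff, ← hgen, Subgroup.closure_le]
    set S := Subgroup.closure ({x, σ x, y', σ y'} : Set T)
    have hxS : x ∈ S := Subgroup.subset_closure (by simp)
    have hσxS : σ x ∈ S := Subgroup.subset_closure (by simp)
    have hyS : y' ∈ S := Subgroup.subset_closure (by simp)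
    have hσyS : σ y' ∈ S := Subgroup.subset_closure (by simp)
    have hyS' : y ∈ S := by
      have := S.mul_mem hyS (S.inv_mem hσxS)
      rwa [hy'def, mul_inv_cancel_right] at this
    have hσyS' : σ y ∈ S := by
      have hσσ : σ (σ x) ∈ S := by
        rw [h.sig_sig]; exact S.inv_mem (S.mul_mem hxS hσxS)
      have := S.mul_mem hσyS (S.inv_mem hσσ)
      rwa [hy'def, map_mul, mul_inv_cancel_right] at this
    intro g hg
    simp only [Set.mem_insert_iff, Set.mem_singleton_iff] at hg
    rcases hg with rfl | rfl | rfl | rfl <;> assumption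
  rcases hVall _ hy2V with e | e | e | e
  · exact ⟨false, x, σ x, y, σ y, c, σ c, hmk false y hxy (by simpa using e), hgen, hVall⟩
  · exact ⟨false, x, σ x, y', σ y', c, σ c,
      hmk false y' hy'rel (by rw [hy'sq, e, h.V_sq hcV]; rfl), hgen', hVall⟩
  · exact ⟨true, x, σ x, y, σ y, c, σ c, hmk true y hxy (by simpa using e), hgen, hVall⟩
  · exact ⟨true, x, σ x, y', σ y', c, σ c,
      hmk true y' hy'rel (by
        rw [hy'sq, e, (hVc c hcV (σ c)).eq, mul_assoc, h.V_sq hcV, mul_one]; rfl), hgen', hVall⟩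

end Hyp

end CfsgLib.TwoGroups.FoursCenter
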