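import Mathlib

/-!
Abelian 2-groups with an involutory automorphism having exactly four fixed points and commuting
with a fixed-point-free automorphism of order three.
-/

set_option autoImplicit false
set_option linter.unusedSectionVars false

namespace CfsgLib.TwoGroups.FoursCenter

variable {A : Type*} [Group A]

/-- The data of the abelian lemma. -/
structure AHyp (τ σ : A →* A) : Prop where
  two : IsPGroup 2 A
  tau_tau : ∀ x, τ (τ x) = x
  sig_cube : ∀ x, σ (σ (σ x)) = x
  comm : ∀ x, τ (σ x) = σ (τ x)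
  fpf : ∀ x, σ x = x → x = 1
  card_fix : Nat.card (τ.eqLocus (MonoidHom.id A)) = 4

theorem mem_fix {τ : A →* A} {x : A} : x ∈ τ.eqLocus (MonoidHom.id A) ↔ τ x = x := Iff.rfl

/-- The four elements `1, u, σ u, u * σ u` fill a group of order four. -/
theorem four_eq [Finite A] {σ : A →* A} (hfpf : ∀ x, σ x = x → x = 1)
    (hinj : Function.Injective σ) {K : Subgroup A}
    (hσ : ∀ x ∈ K, σ x ∈ K) (hK : Nat.card K = 4) {u : A} (hu : u ∈ K) (hu1 : u ≠ 1) :
    ∀ x ∈ K, x = 1 ∨ x = u ∨ x = σ u ∨ x = u * σ u := by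
  classical
  have hne : σ u ≠ u := fun h => hu1 (hfpf u h)
  have h1 : σ u ≠ 1 := fun h => hu1 (hinj (by rw [h, map_one]))
  have h2 : u * σ u ≠ u := fun h => h1 (mul_eq_left.1 h)
  have h3 : u * σ u ≠ σ u := fun h => hu1 (mul_eq_right.1 h)
  have hinvol : u ^ 2 = 1 := by
    have hd : orderOf u ∣ 4 := hK ▸ Subgroup.orderOf_dvd_natCard K hu
    rcases (Nat.dvd_prime_pow Nat.prime_two).1 (show orderOf u ∣ 2 ^ 2 from hd) with ⟨k, hk, hk'⟩
    interval_cases k
    · exact absurd (orderOf_eq_one_iff.1 hk') hu1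
    · exact orderOf_dvd_iff_pow_eq_one.1 (by rw [hk']; norm_num)
    · exfalso
      have hz : Subgroup.zpowers u = K := by
        refine Subgroup.eq_of_le_of_card_ge (Subgroup.zpowers_le.2 hu) ?_
        rw [Nat.card_zpowers, hk', hK]; norm_num
      have hσu : σ u ∈ Subgroup.zpowers u := hz.symm ▸ hσ u hu
      obtain ⟨j, hj⟩ := Subgroup.mem_zpowers_iff.1 hσu
      have hsq : u ^ 2 = 1 := by
        refine hfpf _ ?_
        have h4 : u ^ (4 : ℤ) = 1 := by
          have := pow_orderOf_eq_one u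
          rw [hk'] at this
          exact_mod_cast this
        rw [map_pow, ← hj]
        obtain ⟨a, ha⟩ := Int.even_or_odd' j
        rcases ha with rfl | rfl
        · exfalso
          have : σ (u ^ 2) = 1 := by
            rw [map_pow, ← hj, ← zpow_natCast, ← zpow_mul,
              show (2 * a) * ((2 : ℕ) : ℤ) = 4 * a by push_cast; ring, zpow_mul, h4, one_zpow]
          have h5 : u ^ 2 = 1 := hinj (by rw [this, map_one])
          have := orderOf_dvd_of_pow_eq_one h5
          rw [hk'] at this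
          norm_num at this
        · rw [← zpow_natCast, ← zpow_mul, show (2 * a + 1) * ((2 : ℕ) : ℤ) = 4 * a + 2 by push_cast; ring,
            zpow_add, zpow_mul, h4, one_zpow, one_mul]
          norm_cast
      have := orderOf_dvd_of_pow_eq_one hsq
      rw [hk'] at this
      norm_num at this
  have h4 : u * σ u ≠ 1 := fun h => hne (by
    have e : σ u = u⁻¹ := eq_inv_of_mul_eq_one_right h
    rw [e]; exact inv_eq_of_mul_eq_one_right (by rw [← pow_two, hinvol]))
  intro x hx
  by_contra hc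
  push Not at hc
  have : Fintype K := Fintype.ofFinite _
  let s : Finset K := {1, ⟨u, hu⟩, ⟨σ u, hσ u hu⟩, ⟨u * σ u, K.mul_mem hu (hσ u hu)⟩, ⟨x, hx⟩}
  have hcard : s.card = 5 := by
    simp only [s]
    rw [Finset.card_insert_of_notMem, Finset.card_insert_of_notMem, Finset.card_insert_of_notMem,
      Finset.card_insert_of_notMem, Finset.card_singleton] <;>
      simp [Subtype.ext_iff, hne.symm, Ne.symm h1, Ne.symm hu1, Ne.symm h4, h2.symm, h3.symm,
        Ne.symm hc.1, Ne.symm hc.2.1, Ne.symm hc.2.2.1, Ne.symm hc.2.2.2]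
  have := Finset.card_le_univ s
  rw [hcard, ← Nat.card_eq_fintype_card, hK] at this
  omega

section Comm

variable {A : Type*} [CommGroup A] [Finite A] {τ σ : A →* A} (h : AHyp τ σ)

include h

theorem AHyp.sig_inj : Function.Injective σ := fun a b hab => by
  rw [← h.sig_cube a, hab, h.sig_cube]

theorem AHyp.sig_fix {x : A} (hx : τ x = x) : τ (σ x) = σ x := by rw [h.comm, hx]

theorem AHyp.fix_sq {x : A} (hx : τ x = x) : x ^ 2 = 1 := by
  by_cases h1 : x = 1
  · rw [h1, one_pow]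
  · have hx2 : τ (x ^ 2) = x ^ 2 := by rw [map_pow, hx]
    rcases four_eq h.fpf h.sig_inj (K := τ.eqLocus (MonoidHom.id A)) (fun y hy => h.sig_fix hy)
      h.card_fix hx h1 (x ^ 2) hx2 with e | e | e | e
    · exact e
    · exact absurd (mul_eq_left.1 (show x * x = x by rw [← pow_two]; exact e)) h1
    · -- `σ x = x * x` would make `σ ^ 3 x = x ^ 8`
      have e3 : x ^ 8 = x := by
        have := h.sig_cube x
        simp only [← e, map_pow, ← pow_mul] at this
        exact this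
      have h4 : x ^ 4 = 1 := by
        have : (⟨x, hx⟩ : τ.eqLocus (MonoidHom.id A)) ^ 4 = 1 := by
          rw [← h.card_fix]; exact pow_card_eq_one'
        exact congrArg Subtype.val this
      rw [show 8 = 4 * 2 from rfl, pow_mul, h4, one_pow] at e3
      exact absurd e3.symm h1
    · exfalso
      have e' : σ x = x := mul_left_cancel (e.symm.trans (pow_two x))
      exact h1 (h.fpf x e')

/-- A nontrivial invariant subgroup of fixed points contains all four fixed points. -/
theorem AHyp.fix_le {K : Subgroup A} (hK : ∀ x ∈ K, τ x = x) (hσ : ∀ x ∈ K, σ x ∈ K)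
    {u : A} (hu : u ∈ K) (hu1 : u ≠ 1) {x : A} (hx : τ x = x) : x ∈ K := by
  rcases four_eq h.fpf h.sig_inj (K := τ.eqLocus (MonoidHom.id A)) (fun y hy => h.sig_fix hy)
    h.card_fix (hK u hu) hu1 x hx with e | e | e | e <;> subst e
  exacts [K.one_mem, hu, hσ u hu, K.mul_mem hu (hσ u hu)]

theorem AHyp.elementary {w₀ : A} (hw₀ : w₀ ^ 2 = 1) (hw₁ : τ w₀ ≠ w₀) :
    Nat.card A = 16 ∧ ∀ x : A, x ^ 2 = 1 := by
  set d : A →* A := MonoidHom.id A * τ with hd
  have dval : ∀ x, d x = x * τ x := fun x => rfl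
  set W : Subgroup A := (powMonoidHom 2 : A →* A).ker with hW
  have memW : ∀ x, x ∈ W ↔ x ^ 2 = 1 := fun x => Iff.rfl
  have dfix : ∀ x, τ (d x) = d x := fun x => by rw [dval, map_mul, h.tau_tau, mul_comm]
  have hd0 : d w₀ ≠ 1 := by
    intro e
    rw [dval] at e
    exact hw₁ ((eq_inv_of_mul_eq_one_right e).trans (inv_eq_of_mul_eq_one_right (by rw [← pow_two, hw₀])))
  have hmap : ∀ x : A, τ x = x → x ∈ W.map d := fun x hx =>
    h.fix_le (K := W.map d) (by rintro _ ⟨y, -, rfl⟩; exact dfix y)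
      (by
        rintro _ ⟨y, hy, rfl⟩
        refine ⟨σ y, ?_, ?_⟩
        · show (σ y) ^ 2 = 1
          rw [← map_pow, (memW y).1 hy, map_one]
        · rw [dval, dval, map_mul, h.comm])
      (u := d w₀) ⟨w₀, hw₀, rfl⟩ hd0 hx
  have hWall : ∀ x : A, x ^ 4 = 1 → x ^ 2 = 1 := by
    intro x hx
    obtain ⟨u, hu, hue⟩ := hmap (d x) (dfix x)
    have hu' : u ^ 2 = 1 := hu
    rw [dval, dval] at hue
    set y := x * u⁻¹ with hy
    have hy2 : y ^ 2 = x ^ 2 := by rw [hy, mul_pow, inv_pow, hu', inv_one, mul_one]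
    have hτy : τ y = y⁻¹ := by
      refine eq_inv_of_mul_eq_one_right ?_
      rw [hy, map_mul, map_inv, mul_mul_mul_comm, ← mul_inv, hue, mul_inv_cancel]
    have hwfix : τ (y ^ 2) = y ^ 2 := by
      rw [map_pow, hτy, inv_pow]
      refine inv_eq_of_mul_eq_one_right ?_
      rw [← pow_add, show 2 + 2 = 2 * 2 from rfl, pow_mul, hy2, ← pow_mul, hx]
    obtain ⟨u₁, hu₁, hue₁⟩ := hmap _ hwfix
    have hu₁' : u₁ ^ 2 = 1 := hu₁
    rw [dval] at hue₁
    have hτu₁ : τ u₁ = u₁ * y ^ 2 := by rw [← hue₁, ← mul_assoc, ← pow_two, hu₁', one_mul]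
    have hfix : τ (y * u₁) = y * u₁ := by
      rw [map_mul, hτy, hτu₁, pow_two, mul_comm u₁, ← mul_assoc, ← mul_assoc, inv_mul_cancel, one_mul]
    have := h.fix_sq hfix
    rwa [mul_pow, hu₁', mul_one, hy2] at this
  have hall : ∀ x : A, x ^ 2 = 1 := by
    have key : ∀ k : ℕ, ∀ x : A, x ^ 2 ^ k = 1 → x ^ 2 = 1 := by
      intro k
      induction k with
      | zero => intro x hx; rw [pow_zero, pow_one] at hx; rw [hx, one_pow]
      | succ k ih =>
        intro x hx
        refine hWall x ?_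
        have := ih (x ^ 2) (by rw [← pow_mul, ← pow_succ']; exact hx)
        rwa [← pow_mul] at this
    intro x
    obtain ⟨k, hk⟩ := h.two x
    exact key k x hk
  refine ⟨?_, hall⟩
  have hker : d.ker = τ.eqLocus (MonoidHom.id A) := by
    ext x
    rw [MonoidHom.mem_ker, dval, mem_fix]
    constructor
    · intro e
      exact (eq_inv_of_mul_eq_one_right e).trans (inv_eq_of_mul_eq_one_right (by rw [← pow_two, hall]))
    · intro e
      rw [e, ← pow_two, hall]
  have hrange : d.range = τ.eqLocus (MonoidHom.id A) := by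
    ext x
    constructor
    · rintro ⟨y, rfl⟩; exact dfix y
    · intro hx; obtain ⟨y, -, hy⟩ := hmap x hx; exact ⟨y, hy⟩
  have := Subgroup.card_eq_card_quotient_mul_card_subgroup d.ker
  rw [Nat.card_congr (QuotientGroup.quotientKerEquivRange d).toEquiv, hker, hrange, h.card_fix] at this
  exact this

theorem AHyp.homocyclic (hW : ∀ x : A, x ^ 2 = 1 → τ x = x) :
    ∃ (n : ℕ) (g : A), 1 ≤ n ∧
      Nonempty (A ≃* Multiplicative (ZMod (2 ^ n)) × Multiplicative (ZMod (2 ^ n))) ∧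
      ∀ x : A, ∃ i j : ℤ, x = g ^ i * σ g ^ j := by
  classical
  have hker : Nat.card (powMonoidHom 2 : A →* A).ker ≤ 4 := by
    rw [← h.card_fix]
    exact Subgroup.card_le_of_le (fun x hx => hW x hx)
  have hΩ : ∀ k, Nat.card (powMonoidHom (2 ^ k) : A →* A).ker ≤ 4 ^ k := by
    intro k
    induction k with
    | zero =>
      have : (powMonoidHom (2 ^ 0) : A →* A).ker = ⊥ := by
        ext x; simp
      rw [this, Subgroup.card_bot, pow_zero]
    | succ k ih =>
      set P := (powMonoidHom (2 ^ (k + 1)) : A →* A).ker with hP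
      let f : P →* A := (powMonoidHom 2).comp P.subtype
      have e1 := Subgroup.card_eq_card_quotient_mul_card_subgroup f.ker
      rw [Nat.card_congr (QuotientGroup.quotientKerEquivRange f).toEquiv] at e1
      have e2 : Nat.card f.range ≤ 4 ^ k := by
        refine le_trans (Subgroup.card_le_of_le ?_) ih
        rintro _ ⟨⟨x, hx⟩, rfl⟩
        have hx' : x ^ 2 ^ (k + 1) = 1 := hx
        show (x ^ 2) ^ 2 ^ k = 1
        rwa [← pow_mul, ← pow_succ']
      have e3 : Nat.card f.ker ≤ 4 := by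
        refine le_trans ?_ hker
        exact Nat.card_le_card_of_injective
          (fun x : f.ker => (⟨((x : P) : A), x.2⟩ : (powMonoidHom 2 : A →* A).ker))
          (fun a b hab => Subtype.ext (Subtype.ext (congrArg Subtype.val hab :)))
      rw [e1, pow_succ]
      exact Nat.mul_le_mul e2 e3
  have hex : ∃ n, ∀ x : A, x ^ 2 ^ n = 1 := by
    obtain ⟨n, hn⟩ := IsPGroup.iff_card.1 h.two
    exact ⟨n, fun x => by rw [← hn]; exact pow_card_eq_one'⟩
  set n := Nat.find hex with hn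
  have hexp : ∀ x : A, x ^ 2 ^ n = 1 := Nat.find_spec hex
  have hcard : Nat.card A ≤ 4 ^ n := by
    refine le_trans (le_of_eq ?_) (hΩ n)
    rw [← Subgroup.card_top (G := A)]
    congr 1
    rw [show (powMonoidHom (2 ^ n) : A →* A).ker = ⊤ from eq_top_iff.2 fun x _ => hexp x]
  have hn1 : 1 ≤ n := by
    by_contra hc
    have : Nat.card A ≤ 1 := by
      rwa [show n = 0 by omega, pow_zero] at hcard
    have h4 := Subgroup.card_le_card_group (τ.eqLocus (MonoidHom.id A))
    rw [h.card_fix] at h4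
    omega
  obtain ⟨g, hg⟩ : ∃ g : A, g ^ 2 ^ (n - 1) ≠ 1 := by
    by_contra hc
    push Not at hc
    exact Nat.find_min hex (show n - 1 < n by omega) hc
  have hog : orderOf g = 2 ^ n := by
    have := orderOf_eq_prime_pow (p := 2) (n := n - 1) hg (by
      rw [Nat.sub_add_cancel hn1]; exact hexp g)
    rwa [Nat.sub_add_cancel hn1] at this
  have hogs : orderOf (σ g) = 2 ^ n := by rw [orderOf_injective σ h.sig_inj, hog]
  have huniq : ∀ a : A, orderOf a = 2 ^ n → ∀ w ∈ Subgroup.zpowers a, w ^ 2 = 1 →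
      w = 1 ∨ w = a ^ 2 ^ (n - 1) := by
    intro a ha w hw hw2
    obtain ⟨i, hi⟩ := Subgroup.mem_zpowers_iff.1 hw
    have hdvd : ((2 ^ n : ℕ) : ℤ) ∣ i * 2 := by
      rw [← ha, orderOf_dvd_iff_zpow_eq_one, zpow_mul, hi, show (2 : ℤ) = ((2 : ℕ) : ℤ) from rfl,
        zpow_natCast, hw2]
    rw [show n = n - 1 + 1 by omega, pow_succ, Nat.cast_mul] at hdvd
    obtain ⟨m, rfl⟩ : ((2 ^ (n - 1) : ℕ) : ℤ) ∣ i := by
      exact Int.dvd_of_mul_dvd_mul_right (by norm_num) hdvd
    rw [← hi, zpow_mul, zpow_natCast]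
    have h2 : (a ^ 2 ^ (n - 1)) ^ (2 : ℤ) = 1 := by
      rw [show (2 : ℤ) = ((2 : ℕ) : ℤ) from rfl, zpow_natCast, ← pow_mul, ← pow_succ,
        Nat.sub_add_cancel hn1, ← ha, pow_orderOf_eq_one]
    obtain ⟨r, hr | hr⟩ := Int.even_or_odd' m
    · left; rw [hr, zpow_mul, h2, one_zpow]
    · right; rw [hr, zpow_add, zpow_mul, h2, one_zpow, one_mul, zpow_one]
  have hdisj : ∀ w : A, w ∈ Subgroup.zpowers g → w ∈ Subgroup.zpowers (σ g) → w = 1 := by
    intro w hw hw'
    by_contra hw1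
    obtain ⟨k, hk⟩ := h.two w
    have hex2 : ∃ j, w ^ 2 ^ j = 1 := ⟨k, hk⟩
    have hj := Nat.find_spec hex2
    have hj0 : Nat.find hex2 ≠ 0 := fun e => hw1 (by rwa [e, pow_zero, pow_one] at hj)
    have hv1 : w ^ 2 ^ (Nat.find hex2 - 1) ≠ 1 := Nat.find_min hex2 (by omega)
    have hv2 : (w ^ 2 ^ (Nat.find hex2 - 1)) ^ 2 = 1 := by
      rw [← pow_mul, ← pow_succ, Nat.sub_add_cancel (by omega)]; exact hj
    rcases huniq g hog _ (Subgroup.pow_mem _ hw _) hv2 with e | e
    · exact hv1 e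
    · rcases huniq (σ g) hogs _ (Subgroup.pow_mem _ hw' _) hv2 with e' | e'
      · exact hv1 e'
      · rw [← map_pow, ← e] at e'
        exact hv1 (h.fpf _ e'.symm)
  let φ : Subgroup.zpowers g × Subgroup.zpowers (σ g) →* A :=
    (Subgroup.zpowers g).subtype.coprod (Subgroup.zpowers (σ g)).subtype
  have hφ : ∀ p, φ p = (p.1 : A) * (p.2 : A) := fun p => rfl
  have hinj : Function.Injective φ := by
    refine (injective_iff_map_eq_one φ).2 fun p hp => ?_
    rw [hφ] at hp
    have e : (p.1 : A) = (p.2 : A)⁻¹ := eq_inv_of_mul_eq_one_left hp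
    have h1 : (p.1 : A) = 1 := hdisj _ p.1.2 (e ▸ Subgroup.inv_mem _ p.2.2)
    exact Prod.ext (Subtype.ext h1) (Subtype.ext (by rwa [h1, one_mul] at hp))
  have hbij : Function.Bijective φ := by
    refine (Nat.bijective_iff_injective_and_card φ).2 ⟨hinj, le_antisymm ?_ ?_⟩
    · exact Nat.card_le_card_of_injective φ hinj
    · rw [Nat.card_prod, Nat.card_zpowers, Nat.card_zpowers, hog, hogs, ← mul_pow]
      exact hcard
  have e1 : Nat.card (Subgroup.zpowers g) = 2 ^ n := by rw [Nat.card_zpowers, hog]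
  have e2 : Nat.card (Subgroup.zpowers (σ g)) = 2 ^ n := by rw [Nat.card_zpowers, hogs]
  refine ⟨n, g, hn1, ⟨?_⟩, fun x => ?_⟩
  · exact (MulEquiv.ofBijective φ hbij).symm.trans
      (MulEquiv.prodCongr (e1 ▸ (zmodCyclicMulEquiv inferInstance).symm)
        (e2 ▸ (zmodCyclicMulEquiv inferInstance).symm))
  · obtain ⟨⟨⟨a, i, rfl⟩, ⟨b, j, rfl⟩⟩, hx⟩ := hbij.2 x
    exact ⟨i, j, hx.symm⟩

theorem AHyp.cases :
    (Nat.card A = 16 ∧ ∀ x : A, x ^ 2 = 1) ∨
      ((∀ x : A, x ^ 2 = 1 → τ x = x) ∧ ∃ (n : ℕ) (g : A), 1 ≤ n ∧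
        Nonempty (A ≃* Multiplicative (ZMod (2 ^ n)) × Multiplicative (ZMod (2 ^ n))) ∧
        ∀ x : A, ∃ i j : ℤ, x = g ^ i * σ g ^ j) := by
  by_cases hW : ∀ x : A, x ^ 2 = 1 → τ x = x
  · exact Or.inr ⟨hW, h.homocyclic hW⟩
  · push Not at hW
    obtain ⟨w, hw, hw'⟩ := hW
    exact Or.inl (h.elementary hw hw')

end Comm

end CfsgLib.TwoGroups.FoursCenter
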