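import Cfsg.Agent.Lib.TwoGroups.FoursCenter
import Cfsg.Agent.Lib.InvChar.UnitaryFour
import Cfsg.Agent.Lib.ClassicalLinear.Card

/-!
The two groups of order 64 of `FoursCenter` are the Sylow 2-subgroups of `PSL₃(4)` and `PSU₃(4)`.
-/

set_option autoImplicit false
set_option linter.unusedSectionVars false

namespace CfsgLib.TwoGroups.FoursCenter

section Embedding

variable {P : Type*} [Group P] [Finite P]

theorem mul_mul_inv_eq_of_commute {g a : P} (h : Commute g a) : g * a * g⁻¹ = a := by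
  rw [h.eq, mul_inv_cancel_right]

/-- Adjoining a normalising element with square inside at most doubles the order. -/
theorem card_closure_insert_le {s : Set P} {g : P} (hg : g * g ∈ Subgroup.closure s)
    (hn : ∀ a ∈ s, g * a * g⁻¹ ∈ Subgroup.closure s) :
    Nat.card (Subgroup.closure (insert g s)) ≤ 2 * Nat.card (Subgroup.closure s) := by
  classical
  set K := Subgroup.closure s with hK
  have hconj : ∀ k ∈ K, g * k * g⁻¹ ∈ K := by
    have : K ≤ K.comap (MulAut.conj g).toMonoidHom := (Subgroup.closure_le _).2 hn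
    exact fun k hk => this hk
  have hconj' : ∀ k ∈ K, g⁻¹ * k * g ∈ K := fun k hk => by
    have e : g⁻¹ * k * g = (g * g)⁻¹ * (g * k * g⁻¹) * (g * g) := by group
    rw [e]
    exact K.mul_mem (K.mul_mem (K.inv_mem hg) (hconj k hk)) hg
  let L : Subgroup P :=
    { carrier := {a | a ∈ K ∨ g * a ∈ K}
      one_mem' := Or.inl K.one_mem
      mul_mem' := by
        rintro a b (ha | ha) (hb | hb)
        · exact Or.inl (K.mul_mem ha hb)
        · right
          have e : g * (a * b) = g * a * g⁻¹ * (g * b) := by group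
          rw [e]; exact K.mul_mem (hconj a ha) hb
        · right
          have e : g * (a * b) = g * a * b := by group
          rw [e]; exact K.mul_mem ha hb
        · left
          have e : a * b = g⁻¹ * (g * a) * g * ((g * g)⁻¹ * (g * b)) := by group
          rw [e]; exact K.mul_mem (hconj' _ ha) (K.mul_mem (K.inv_mem hg) hb)
      inv_mem' := by
        rintro a (ha | ha)
        · exact Or.inl (K.inv_mem ha)
        · right
          have e : g * a⁻¹ = g * (g * a)⁻¹ * g⁻¹ * (g * g) := by group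
          rw [e]; exact K.mul_mem (hconj _ (K.inv_mem ha)) hg }
  have hle : Subgroup.closure (insert g s) ≤ L := by
    rw [Subgroup.closure_le]
    rintro a (rfl | ha)
    · exact Or.inr hg
    · exact Or.inl (Subgroup.subset_closure ha)
  refine le_trans (Subgroup.card_le_of_le hle) ?_
  have hsub : (L : Set P) ⊆ (K : Set P) ∪ (fun a => g⁻¹ * a) '' (K : Set P) := by
    rintro a (ha | ha)
    · exact Or.inl ha
    · exact Or.inr ⟨g * a, ha, by group⟩
  calc Nat.card L = (L : Set P).ncard := rfl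
    _ ≤ _ := (Set.ncard_le_ncard hsub (Set.toFinite _)).trans (Set.ncard_union_le _ _)
    _ ≤ (K : Set P).ncard + (K : Set P).ncard := by
        exact Nat.add_le_add_left (Set.ncard_image_le (Set.toFinite _)) _
    _ = _ := by rw [two_mul]; rfl

theorem Rels.card_closure_le {b : Bool} {x₁ x₂ y₁ y₂ c₁ c₂ : P} (h : Rels b x₁ x₂ y₁ y₂ c₁ c₂) :
    Nat.card (Subgroup.closure ({y₂, y₁, x₂, x₁, c₂, c₁} : Set P)) ≤ 64 := by
  have hc : ∀ {g : P} {s : Set P}, g * g ∈ Subgroup.closure s →
      (∀ a ∈ s, g * a * g⁻¹ ∈ Subgroup.closure s) → ∀ n, Nat.card (Subgroup.closure s) ≤ n →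
      Nat.card (Subgroup.closure (insert g s)) ≤ 2 * n := fun hg hn n hn' =>
    (card_closure_insert_le hg hn).trans (Nat.mul_le_mul_left 2 hn')
  have h0 : Nat.card (Subgroup.closure ({c₁} : Set P)) ≤ 2 := by
    rw [← Subgroup.zpowers_eq_closure, Nat.card_zpowers]
    exact orderOf_le_of_pow_eq_one (by norm_num) (by rw [pow_two]; exact h.c₁_sq)
  have h1 := hc (g := c₂) (s := {c₁}) (by rw [h.c₂_sq]; exact one_mem _)
    (fun a ha => by
      rw [Set.mem_singleton_iff.1 ha, mul_mul_inv_eq_of_commute h.c_comm.symm]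
      exact Subgroup.subset_closure rfl) 2 h0
  have h2 := hc (g := x₁) (s := {c₂, c₁})
    (by rw [h.x₁_sq]; exact Subgroup.subset_closure (by simp))
    (fun a ha => by
      rcases ha with rfl | ha
      · rw [mul_mul_inv_eq_of_commute h.c₂x₁.symm]; exact Subgroup.subset_closure (by simp)
      · rw [Set.mem_singleton_iff.1 ha, mul_mul_inv_eq_of_commute h.c₁x₁.symm]
        exact Subgroup.subset_closure (by simp)) _ h1
  have h3 := hc (g := x₂) (s := {x₁, c₂, c₁})
    (by rw [h.x₂_sq]; exact Subgroup.subset_closure (by simp))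
    (fun a ha => by
      rcases ha with rfl | rfl | ha
      · rw [mul_mul_inv_eq_of_commute h.x_comm.symm]; exact Subgroup.subset_closure (by simp)
      · rw [mul_mul_inv_eq_of_commute h.c₂x₂.symm]; exact Subgroup.subset_closure (by simp)
      · rw [Set.mem_singleton_iff.1 ha, mul_mul_inv_eq_of_commute h.c₁x₂.symm]
        exact Subgroup.subset_closure (by simp)) _ h2
  have hx : ∀ {x y c : P}, x * y = y * x * c → Commute c y → y * x * y⁻¹ = x * c⁻¹ := by
    intro x y c e hcy
    calc y * x * y⁻¹ = y * x * c * (c⁻¹ * y⁻¹) := by group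
      _ = x * y * (c⁻¹ * y⁻¹) := by rw [e]
      _ = x * y * (y⁻¹ * c⁻¹) := by rw [hcy.inv_inv.eq]
      _ = _ := by group
  have h4 := hc (g := y₁) (s := {x₂, x₁, c₂, c₁})
    (by
      rw [h.y₁_sq]
      cases b
      · exact one_mem _
      · exact Subgroup.subset_closure (by simp))
    (fun a ha => by
      rcases ha with rfl | rfl | rfl | ha
      · rw [hx h.xy₂₁ (h.c₁y₁.mul_left h.c₂y₁)]
        exact mul_mem (Subgroup.subset_closure (by simp))
          (inv_mem (mul_mem (Subgroup.subset_closure (by simp)) (Subgroup.subset_closure (by simp))))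
      · rw [hx h.xy₁₁ h.c₁y₁]
        exact mul_mem (Subgroup.subset_closure (by simp)) (inv_mem (Subgroup.subset_closure (by simp)))
      · rw [mul_mul_inv_eq_of_commute h.c₂y₁.symm]; exact Subgroup.subset_closure (by simp)
      · rw [Set.mem_singleton_iff.1 ha, mul_mul_inv_eq_of_commute h.c₁y₁.symm]
        exact Subgroup.subset_closure (by simp)) _ h3
  have h5 := hc (g := y₂) (s := {y₁, x₂, x₁, c₂, c₁})
    (by
      rw [h.y₂_sq]
      cases b
      · exact one_mem _
      · exact mul_mem (Subgroup.subset_closure (by simp)) (Subgroup.subset_closure (by simp)))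
    (fun a ha => by
      rcases ha with rfl | rfl | rfl | rfl | ha
      · rw [mul_mul_inv_eq_of_commute h.y_comm.symm]; exact Subgroup.subset_closure (by simp)
      · rw [hx h.xy₂₂ h.c₂y₂]
        exact mul_mem (Subgroup.subset_closure (by simp)) (inv_mem (Subgroup.subset_closure (by simp)))
      · rw [hx h.xy₁₂ (h.c₁y₂.mul_left h.c₂y₂)]
        exact mul_mem (Subgroup.subset_closure (by simp))
          (inv_mem (mul_mem (Subgroup.subset_closure (by simp)) (Subgroup.subset_closure (by simp))))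
      · rw [mul_mul_inv_eq_of_commute h.c₂y₂.symm]; exact Subgroup.subset_closure (by simp)
      · rw [Set.mem_singleton_iff.1 ha, mul_mul_inv_eq_of_commute h.c₁y₂.symm]
        exact Subgroup.subset_closure (by simp)) _ h4
  exact h5.trans (by norm_num)

/-- The relations pass to pairs. -/
theorem Rels.prod {M : Type*} [Group M] {b : Bool} {x₁ x₂ y₁ y₂ c₁ c₂ : P}
    (h : Rels b x₁ x₂ y₁ y₂ c₁ c₂) {x₁' x₂' y₁' y₂' c₁' c₂' : M}
    (h' : Rels b x₁' x₂' y₁' y₂' c₁' c₂') :
    Rels b (x₁, x₁') (x₂, x₂') (y₁, y₁') (y₂, y₂') (c₁, c₁') (c₂, c₂') where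
  c₁_sq := Prod.ext h.c₁_sq h'.c₁_sq
  c₂_sq := Prod.ext h.c₂_sq h'.c₂_sq
  c_comm := Prod.ext h.c_comm h'.c_comm
  c₁x₁ := Prod.ext h.c₁x₁ h'.c₁x₁
  c₁x₂ := Prod.ext h.c₁x₂ h'.c₁x₂
  c₁y₁ := Prod.ext h.c₁y₁ h'.c₁y₁
  c₁y₂ := Prod.ext h.c₁y₂ h'.c₁y₂
  c₂x₁ := Prod.ext h.c₂x₁ h'.c₂x₁
  c₂x₂ := Prod.ext h.c₂x₂ h'.c₂x₂
  c₂y₁ := Prod.ext h.c₂y₁ h'.c₂y₁
  c₂y₂ := Prod.ext h.c₂y₂ h'.c₂y₂
  x₁_sq := Prod.ext h.x₁_sq h'.x₁_sq
  x₂_sq := Prod.ext h.x₂_sq h'.x₂_sq
  y₁_sq := by cases b <;> exact Prod.ext h.y₁_sq h'.y₁_sq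
  y₂_sq := by cases b <;> exact Prod.ext h.y₂_sq h'.y₂_sq
  x_comm := Prod.ext h.x_comm h'.x_comm
  y_comm := Prod.ext h.y_comm h'.y_comm
  xy₁₁ := Prod.ext h.xy₁₁ h'.xy₁₁
  xy₂₂ := Prod.ext h.xy₂₂ h'.xy₂₂
  xy₁₂ := Prod.ext h.xy₁₂ h'.xy₁₂
  xy₂₁ := Prod.ext h.xy₂₁ h'.xy₂₁

end Embedding

/-- A group of order 64 with these relations embeds in every group having a faithful model of the
relations. -/
theorem exists_embedding {T M : Type*} [Group T] [Finite T] [Group M] [Finite M] {b : Bool}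
    (hT : IsPGroup 2 T) {x₁ x₂ y₁ y₂ c₁ c₂ : T} (h : Rels b x₁ x₂ y₁ y₂ c₁ c₂)
    (hcard : Nat.card T = 64) (hgen : Subgroup.closure {x₁, x₂, y₁, y₂} = ⊤)
    (hcen : ∀ z ∈ Subgroup.center T, z = 1 ∨ z = c₁ ∨ z = c₂ ∨ z = c₁ * c₂)
    {x₁' x₂' y₁' y₂' c₁' c₂' : M} (h' : Rels b x₁' x₂' y₁' y₂' c₁' c₂')
    (h1 : c₁' ≠ 1) (h2 : c₂' ≠ 1) (h3 : c₁' * c₂' ≠ 1) :
    ∃ f : T →* M, Function.Injective f := by
  classical
  have hp : Fact (Nat.Prime 2) := ⟨Nat.prime_two⟩
  set D := Subgroup.closure ({(y₂, y₂'), (y₁, y₁'), (x₂, x₂'), (x₁, x₁'), (c₂, c₂'), (c₁, c₁')} :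
    Set (T × M)) with hD
  let π : D →* T := (MonoidHom.fst T M).comp D.subtype
  have hsurj : Function.Surjective π := by
    rw [← MonoidHom.range_eq_top, eq_top_iff, ← hgen, Subgroup.closure_le]
    intro a ha
    simp only [Set.mem_insert_iff, Set.mem_singleton_iff] at ha
    rcases ha with rfl | rfl | rfl | rfl
    · exact ⟨⟨(a, x₁'), Subgroup.subset_closure (by simp)⟩, rfl⟩
    · exact ⟨⟨(a, x₂'), Subgroup.subset_closure (by simp)⟩, rfl⟩
    · exact ⟨⟨(a, y₁'), Subgroup.subset_closure (by simp)⟩, rfl⟩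
    · exact ⟨⟨(a, y₂'), Subgroup.subset_closure (by simp)⟩, rfl⟩
  have hbij : Function.Bijective π :=
    (Nat.bijective_iff_surjective_and_card π).2 ⟨hsurj, le_antisymm
      (hcard ▸ (h.prod h').card_closure_le) (Nat.card_le_card_of_surjective π hsurj)⟩
  let e : T ≃* D := (MulEquiv.ofBijective π hbij).symm
  let f : T →* M := ((MonoidHom.snd T M).comp D.subtype).comp e.toMonoidHom
  have hf : ∀ p : D, f (π p) = (p : T × M).2 := fun p => by
    show ((e (π p) : D) : T × M).2 = _
    rw [show e (π p) = p from (MulEquiv.ofBijective π hbij).symm_apply_apply p]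
  refine ⟨f, ?_⟩
  rw [← MonoidHom.ker_eq_bot_iff]
  by_contra hne
  obtain ⟨z, hz, hz1, hzc⟩ := exists_mem_center_of_normal (N := f.ker) hT hne
  have hz' : f z = 1 := hz
  have hfc₁ : f c₁ = c₁' := hf ⟨(c₁, c₁'), Subgroup.subset_closure (by simp)⟩
  have hfc₂ : f c₂ = c₂' := hf ⟨(c₂, c₂'), Subgroup.subset_closure (by simp)⟩
  rcases hcen z hzc with rfl | rfl | rfl | rfl
  · exact hz1 rfl
  · exact h1 (hfc₁.symm.trans hz')
  · exact h2 (hfc₂.symm.trans hz')
  · exact h3 (by rw [← hfc₁, ← hfc₂, ← map_mul]; exact hz')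

section Linear

open Matrix

variable {F : Type*} [Field F] [Fintype F]

/-- The upper unitriangular matrices of size three. -/
def uni (a b c : F) : Matrix.SpecialLinearGroup (Fin 3) F :=
  ⟨!![1, a, c; 0, 1, b; 0, 0, 1], by simp [Matrix.det_fin_three]⟩

theorem uni_mul (a b c a' b' c' : F) :
    uni a b c * uni a' b' c' = uni (a + a') (b + b') (c + c' + a * b') := by
  apply Subtype.ext
  show (!![1, a, c; 0, 1, b; 0, 0, 1] : Matrix (Fin 3) (Fin 3) F) * !![1, a', c'; 0, 1, b'; 0, 0, 1] =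
    !![1, a + a', c + c' + a * b'; 0, 1, b + b'; 0, 0, 1]
  ext i j
  fin_cases i <;> fin_cases j <;> simp [Matrix.mul_apply, Fin.sum_univ_three] <;> ring

/-- The image of a unitriangular matrix in `PSL₃`. -/
def puni (a b c : F) : Matrix.ProjectiveSpecialLinearGroup (Fin 3) F :=
  QuotientGroup.mk (uni a b c)

theorem puni_mul (a b c a' b' c' : F) :
    puni a b c * puni a' b' c' = puni (a + a') (b + b') (c + c' + a * b') := by
  unfold puni
  rw [← QuotientGroup.mk_mul, uni_mul]

theorem puni_one : puni (0 : F) 0 0 = 1 := by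
  have : uni (0 : F) 0 0 = 1 := by
    apply Subtype.ext
    show (!![1, 0, 0; 0, 1, 0; 0, 0, 1] : Matrix (Fin 3) (Fin 3) F) = 1
    ext i j; fin_cases i <;> fin_cases j <;> simp
  unfold puni; rw [this]; rfl

theorem puni_ne_one {c : F} (hc : c ≠ 0) : puni 0 0 c ≠ 1 := by
  intro e
  have := (QuotientGroup.eq_one_iff _).1 e
  rw [Matrix.SpecialLinearGroup.mem_center_iff] at this
  obtain ⟨r, -, hr⟩ := this
  have h := congrFun (congrFun hr 0) 2
  simp [uni, Matrix.scalar_apply] at h
  exact hc h.symm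

theorem card_psl_three_four (hF : Fintype.card F = 4) :
    Nat.card (Matrix.ProjectiveSpecialLinearGroup (Fin 3) F) = 2 ^ 6 * 315 := by
  have h := CfsgLib.ClassicalLinear.card_PSL (ι := Fin 3) (F := F)
  rw [hF, Fintype.card_fin, Fin.prod_univ_three] at h
  norm_num at h
  omega

theorem nonempty_equiv_sylow_psl {T : Type*} [Group T] [Finite T] (hF : Fintype.card F = 4)
    (hT : IsPGroup 2 T) {x₁ x₂ y₁ y₂ c₁ c₂ : T} (h : Rels false x₁ x₂ y₁ y₂ c₁ c₂)
    (hcard : Nat.card T = 64) (hgen : Subgroup.closure {x₁, x₂, y₁, y₂} = ⊤)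
    (hcen : ∀ z ∈ Subgroup.center T, z = 1 ∨ z = c₁ ∨ z = c₂ ∨ z = c₁ * c₂)
    (P : Sylow 2 (Matrix.ProjectiveSpecialLinearGroup (Fin 3) F)) :
    Nonempty (T ≃* ↥(P : Subgroup (Matrix.ProjectiveSpecialLinearGroup (Fin 3) F))) := by
  classical
  have hp : Fact (Nat.Prime 2) := ⟨Nat.prime_two⟩
  have h2 : (2 : F) = 0 := by
    have : ringChar F = 2 := by rw [FiniteField.even_card_iff_char_two, hF]
    have : CharP F 2 := by rw [← this]; exact ringChar.charP F
    exact CharTwo.two_eq_zero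
  obtain ⟨w, hw⟩ : ∃ w : F, w ∉ ({0, 1} : Finset F) := by
    refine Finset.exists_mem_notMem_of_card_lt_card (t := Finset.univ) ?_ |>.imp fun w hw => hw.2
    rw [Finset.card_univ, hF]
    exact lt_of_le_of_lt Finset.card_le_two (by norm_num)
  simp only [Finset.mem_insert, Finset.mem_singleton, not_or] at hw
  have h4 : w ^ 4 = w := hF ▸ FiniteField.pow_card w
  have hw2 : w ^ 2 + w + 1 = 0 := by
    have e : (w * (w - 1)) * (w ^ 2 + w + 1) = 0 := by linear_combination h4
    rcases mul_eq_zero.1 e with e' | e'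
    · rcases mul_eq_zero.1 e' with e'' | e''
      · exact absurd e'' hw.1
      · exact absurd (sub_eq_zero.1 e'') hw.2
    · exact e'
  have hR : Rels false (puni 1 1 (0 : F)) (puni w w 0) (puni 0 1 0) (puni 0 w 0) (puni 0 0 1)
      (puni 0 0 (w ^ 2)) := by
    constructor <;>
      simp only [commute_iff_eq, puni_mul, Bool.false_eq_true, if_false, ← puni_one (F := F)] <;>
      congr 1 <;>
      first
        | ring1
        | linear_combination (1 : F) * h2
        | linear_combination (w : F) * h2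
        | linear_combination (w ^ 2 : F) * h2
        | linear_combination (-1 : F) * h2
        | linear_combination (-w : F) * h2
        | linear_combination (-w ^ 2 : F) * h2
        | linear_combination hw2
        | linear_combination -hw2
        | linear_combination (-1 : F) * hw2 + h2 * (0 : F)
        | linear_combination hw2 - (w ^ 2 : F) * h2
        | linear_combination hw2 - (w ^ 2 + 1 : F) * h2
  obtain ⟨f, hf⟩ := exists_embedding hT h hcard hgen hcen hR (puni_ne_one one_ne_zero)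
    (puni_ne_one (pow_ne_zero _ hw.1)) (by
      rw [puni_mul]; simp only [mul_zero, add_zero]
      exact puni_ne_one fun e => hw.1 (by linear_combination hw2 - e))
  have hr : Nat.card f.range = 64 := by
    rw [← hcard]; exact Nat.card_congr (MonoidHom.ofInjective hf).symm.toEquiv
  let Q : Sylow 2 (Matrix.ProjectiveSpecialLinearGroup (Fin 3) F) := Sylow.ofCard f.range (by
    rw [hr, card_psl_three_four hF, Nat.factorization_mul (by norm_num) (by norm_num),
      Nat.Prime.factorization_pow Nat.prime_two, Finsupp.add_apply, Finsupp.single_eq_same,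
      Nat.factorization_eq_zero_of_not_dvd (show ¬ 2 ∣ 315 by norm_num)]
    rfl)
  exact ⟨(MonoidHom.ofInjective hf).trans (Sylow.equiv Q P)⟩

end Linear

section Unitary

open CfsgLib.InvChar.UnitaryFour

variable {F : Type*} [Field F] [Fintype F]

theorem nonempty_equiv_sylow_psu {T : Type*} [Group T] [Finite T] (hF : Fintype.card F = 16)
    (hT : IsPGroup 2 T) {x₁ x₂ y₁ y₂ c₁ c₂ : T} (h : Rels true x₁ x₂ y₁ y₂ c₁ c₂)
    (hcard : Nat.card T = 64) (hgen : Subgroup.closure {x₁, x₂, y₁, y₂} = ⊤)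
    (hcen : ∀ z ∈ Subgroup.center T, z = 1 ∨ z = c₁ ∨ z = c₂ ∨ z = c₁ * c₂)
    (S : Sylow 2 (Cfsg.PSU 3 F 4)) :
    Nonempty (T ≃* ↥(S : Subgroup (Cfsg.PSU 3 F 4))) := by
  classical
  obtain ⟨e, he⟩ := exists_param hF S
  have h2 := two_eq_zero hF
  obtain ⟨a, ha⟩ : ∃ a : F, a + a ^ 4 = 1 := (psi_range_ker hF).1 1 (one_pow _)
  set w : F := a ^ 2 + a + 1 with hw
  have hw2 : w ^ 2 + w + 1 = 0 := by
    rw [hw]; linear_combination ha + (a ^ 3 + 2 * a ^ 2 + a + 2) * h2
  have hw4 : w ^ 4 = w := by linear_combination (w ^ 2 - w) * hw2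
  let m : (x : F) → (y : F) → (h : (x, y) ∈ Param F) → ↥(S : Subgroup (Cfsg.PSU 3 F 4)) :=
    fun x y h => e ⟨(x, y), h⟩
  have hm : ∀ {x y : F} {hxy : (x, y) ∈ Param F} {x' y' : F} {hxy' : (x', y') ∈ Param F}
      {x'' y'' : F} (h'' : (x'', y'') ∈ Param F), x + x' = x'' → y + y' + x ^ 4 * x' = y'' →
      m x y hxy * m x' y' hxy' = m x'' y'' h'' := by
    intro x y hxy x' y' hxy' x'' y'' h'' e1 e2
    show e _ * e _ = e _
    rw [he]
    exact congrArg e (Subtype.ext (Prod.ext e1 e2))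
  have h00 : ((0 : F), (0 : F)) ∈ Param F := by simp [Param]
  have hone : m 0 0 h00 = 1 := by
    have := hm (hxy := h00) (hxy' := h00) h00 (add_zero 0) (by ring)
    exact mul_eq_left.1 this
  have h01 : ((0 : F), (1 : F)) ∈ Param F := by
    simp [Param]; linear_combination h2
  have h0w : ((0 : F), w ^ 2) ∈ Param F := by
    show w ^ 2 + (w ^ 2) ^ 4 = 0 ^ 5
    linear_combination (w ^ 4 + w) * hw4 + (w ^ 2) * h2
  have h0w' : ((0 : F), w) ∈ Param F := by
    show w + w ^ 4 = 0 ^ 5
    linear_combination hw4 + w * h2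
  have hX1 : ((1 : F), a) ∈ Param F := by show a + a ^ 4 = 1 ^ 5; linear_combination ha
  have hw5 : w ^ 5 = w ^ 2 := by linear_combination w * hw4
  have hw8 : (w ^ 2) ^ 4 = w ^ 2 := by linear_combination (w ^ 4 + w) * hw4
  have ha5 : a ^ 5 = w ^ 2 := by
    rw [hw]; linear_combination (a + 1) * ha - (a ^ 4 + a ^ 3 + 2 * a ^ 2 + a) * h2
  have hX2 : (w, w ^ 2 * a) ∈ Param F := by
    show w ^ 2 * a + (w ^ 2 * a) ^ 4 = w ^ 5
    rw [mul_pow, hw8, hw5]; linear_combination w ^ 2 * ha
  have hY1 : (a, w ^ 2 * a) ∈ Param F := by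
    show w ^ 2 * a + (w ^ 2 * a) ^ 4 = a ^ 5
    rw [mul_pow, hw8, ha5]; linear_combination w ^ 2 * ha
  have hY2 : (w * a, w * a) ∈ Param F := by
    show w * a + (w * a) ^ 4 = (w * a) ^ 5
    rw [mul_pow, mul_pow, hw4, hw5, ha5]; linear_combination w * ha - hw4
  let X1 := m 1 a hX1
  let X2 := m w (w ^ 2 * a) hX2
  let Y1 := m a (w ^ 2 * a) hY1
  let Y2 := m (w * a) (w * a) hY2
  let C1 := m 0 1 h01
  let C2 := m 0 (w ^ 2) h0w
  have hC : C1 * C2 = m 0 w h0w' :=
    hm h0w' (add_zero 0) (by linear_combination hw2 - w * h2)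
  have hca : ∀ {x y : F} {hxy : (x, y) ∈ Param F} {c : F} {hc : (0, c) ∈ Param F},
      m 0 c hc * m x y hxy = m x y hxy * m 0 c hc := by
    intro x y hxy c hc
    show e _ * e _ = e _ * e _
    rw [he, he]
    exact congrArg e (Subtype.ext (Prod.ext (add_comm _ _) (by show _ + _ + _ = _ + _ + _; ring)))
  have hR : Rels true X1 X2 Y1 Y2 C1 C2 :=
    { c₁_sq := (hm h00 (add_zero 0) (by linear_combination h2)).trans hone
      c₂_sq := (hm h00 (add_zero 0) (by linear_combination w ^ 2 * h2)).trans hone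
      c_comm := hca
      c₁x₁ := hca
      c₁x₂ := hca
      c₁y₁ := hca
      c₁y₂ := hca
      c₂x₁ := hca
      c₂x₂ := hca
      c₂y₁ := hca
      c₂y₂ := hca
      x₁_sq := hm h01 (by linear_combination h2) (by linear_combination a * h2)
      x₂_sq := hm h0w (by linear_combination w * h2)
        (by linear_combination w * hw4 + w ^ 2 * a * h2)
      y₁_sq := by
        simp only [if_true]
        exact hm h0w (by linear_combination a * h2) (by linear_combination ha5 + w ^ 2 * a * h2)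
      y₂_sq := by
        simp only [if_true]
        rw [hC]
        exact hm h0w' (by linear_combination w * a * h2) (by
          linear_combination (a ^ 5 * (w + 0)) * hw4 + w ^ 2 * ha5 + hw4 + w * a * h2)
      x_comm := by
        show e _ * e _ = e _ * e _
        rw [he, he]
        refine congrArg e (Subtype.ext (Prod.ext (add_comm _ _) ?_))
        show a + w ^ 2 * a + 1 ^ 4 * w = w ^ 2 * a + a + w ^ 4 * 1
        linear_combination -hw4
      y_comm := by
        show e _ * e _ = e _ * e _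
        rw [he, he]
        refine congrArg e (Subtype.ext (Prod.ext (add_comm _ _) ?_))
        show w ^ 2 * a + w * a + a ^ 4 * (w * a) = w * a + w ^ 2 * a + (w * a) ^ 4 * a
        linear_combination -(a ^ 5) * hw4
      xy₁₁ := by
        show e _ * e _ = e _ * e _ * e _
        rw [he, he, he]
        refine congrArg e (Subtype.ext (Prod.ext (by show _ + _ = _ + _ + _; ring) ?_))
        show a + w ^ 2 * a + 1 ^ 4 * a = w ^ 2 * a + a + a ^ 4 * 1 + 1 + (a + 1) ^ 4 * 0
        linear_combination ha - a ^ 4 * h2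
      xy₂₂ := by
        show e _ * e _ = e _ * e _ * e _
        rw [he, he, he]
        refine congrArg e (Subtype.ext (Prod.ext (by show _ + _ = _ + _ + _; ring) ?_))
        show w ^ 2 * a + w * a + w ^ 4 * (w * a) =
          w * a + w ^ 2 * a + (w * a) ^ 4 * w + w ^ 2 + (w * a + w) ^ 4 * 0
        linear_combination (a * w - a ^ 4 * w) * hw4 + w ^ 2 * ha - (w ^ 2 * a ^ 4) * h2
      xy₁₂ := by
        rw [hC]
        show e _ * e _ = e _ * e _ * e _
        rw [he, he, he]
        refine congrArg e (Subtype.ext (Prod.ext (by show _ + _ = _ + _ + _; ring) ?_))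
        show a + w * a + 1 ^ 4 * (w * a) = w * a + a + (w * a) ^ 4 * 1 + w + (w * a + 1) ^ 4 * 0
        linear_combination -(a ^ 4) * hw4 + w * ha - (w * a ^ 4) * h2
      xy₂₁ := by
        rw [hC]
        show e _ * e _ = e _ * e _ * e _
        rw [he, he, he]
        refine congrArg e (Subtype.ext (Prod.ext (by show _ + _ = _ + _ + _; ring) ?_))
        show w ^ 2 * a + w ^ 2 * a + w ^ 4 * a =
          w ^ 2 * a + w ^ 2 * a + a ^ 4 * w + w + (a + w) ^ 4 * 0
        linear_combination a * hw4 + w * ha - (w * a ^ 4) * h2 }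
  have hne : ∀ {c : F} (hc : (0, c) ∈ Param F), c ≠ 0 → m 0 c hc ≠ 1 := by
    intro c hc hc0 e1
    rw [← hone] at e1
    exact hc0 (congrArg Prod.snd (congrArg Subtype.val (e.injective e1)))
  have hw0 : w ≠ 0 := by
    intro e0; rw [e0] at hw2; simp at hw2
  obtain ⟨f, hf⟩ := exists_embedding hT h hcard hgen hcen hR (hne _ one_ne_zero)
    (hne _ (pow_ne_zero _ hw0)) (by rw [hC]; exact hne _ hw0)
  have hS : Nat.card ↥(S : Subgroup (Cfsg.PSU 3 F 4)) = 64 := by
    rw [← Nat.card_congr e, card_param hF]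
  exact ⟨MulEquiv.ofBijective f ((Nat.bijective_iff_injective_and_card f).2 ⟨hf, hcard.trans hS.symm⟩)⟩

end Unitary

end CfsgLib.TwoGroups.FoursCenter
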