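import Cfsg.Agent.Lib.TwoGroups.Aut
import Cfsg.Agent.Lib.TwoGroups.Taussky
import Cfsg.Agent.Lib.CoprimeAction.Aut
import Cfsg.Agent.Lib.PGroups.ClassTwo
import Cfsg.Agent.Lib.PGroups.Frattini
import Cfsg.Agent.Lib.BGAppendix.OmegaSmall

/-!
Metacyclic 2-groups with an automorphism of odd order.
-/

set_option autoImplicit false
set_option linter.style.haveILetI false

namespace CfsgLib.TwoGroups

open scoped commutatorElement

variable {X : Type*} [Group X] [Finite X]

omit [Finite X] in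
theorem exists_two_gen (h : Cfsg.IsMetacyclic X) :
    ∃ a b : X, Subgroup.zpowers a ⊔ Subgroup.zpowers b = ⊤ := by
  obtain ⟨N, hN, hNc, hQc⟩ := h
  obtain ⟨u, hu⟩ := hNc.exists_generator
  obtain ⟨v, hv⟩ := hQc.exists_generator
  obtain ⟨b, rfl⟩ := QuotientGroup.mk'_surjective N v
  refine ⟨u, b, top_le_iff.1 fun t _ => ?_⟩
  obtain ⟨j, hj⟩ := Subgroup.mem_zpowers_iff.1 (hv (QuotientGroup.mk' N t))
  have hmem : t * (b ^ j)⁻¹ ∈ N := (QuotientGroup.eq_one_iff _).1 (by
    show QuotientGroup.mk' N _ = 1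
    rw [map_mul, map_inv, map_zpow, hj, mul_inv_cancel])
  obtain ⟨i, hi⟩ := Subgroup.mem_zpowers_iff.1 (hu ⟨_, hmem⟩)
  have hi' : (u : X) ^ i = t * (b ^ j)⁻¹ := by simpa using congrArg Subtype.val hi
  rw [show t = (u : X) ^ i * b ^ j by rw [hi', inv_mul_cancel_right]]
  exact Subgroup.mul_mem_sup (Subgroup.zpow_mem_zpowers _ i) (Subgroup.zpow_mem_zpowers _ j)

/-- An abelian 2-generator 2-group whose automorphism moves all subgroups of index two is
homocyclic. -/
theorem homocyclic_of_moved (hX : IsPGroup 2 X) (hc : ∀ x y : X, x * y = y * x) {a b : X}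
    (hab : Subgroup.zpowers a ⊔ Subgroup.zpowers b = ⊤) (φ : MulAut X)
    (hno : ∀ M : Subgroup X, M.index = 2 → M.map φ.toMonoidHom ≠ M) :
    ∃ m : ℕ, orderOf a = 2 ^ m ∧ orderOf b = 2 ^ m ∧
      Subgroup.zpowers a ⊓ Subgroup.zpowers b = ⊥ ∧ ∀ x : X, x ^ 2 ^ m = 1 := by
  have : Fact (Nat.Prime 2) := ⟨Nat.prime_two⟩
  obtain ⟨i, hi⟩ := IsPGroup.iff_orderOf.1 hX a
  obtain ⟨j, hj⟩ := IsPGroup.iff_orderOf.1 hX b
  have hmem : ∀ x : X, x ∈ Subgroup.zpowers a ⊔ Subgroup.zpowers b := fun x => hab ▸ Subgroup.mem_top x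
  haveI : (Subgroup.zpowers a).Normal := ⟨fun w hw g => by rwa [hc g w, mul_inv_cancel_right]⟩
  have hexp : ∀ x : X, x ^ 2 ^ max i j = 1 := by
    intro x
    obtain ⟨u, hu, v, hv, rfl⟩ := Subgroup.mem_sup_of_normal_left.1 (hmem x)
    have hu' : u ^ 2 ^ max i j = 1 := orderOf_dvd_iff_pow_eq_one.1
      ((orderOf_dvd_of_mem_zpowers hu).trans (hi ▸ pow_dvd_pow 2 (le_max_left i j)))
    have hv' : v ^ 2 ^ max i j = 1 := orderOf_dvd_iff_pow_eq_one.1
      ((orderOf_dvd_of_mem_zpowers hv).trans (hj ▸ pow_dvd_pow 2 (le_max_right i j)))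
    rw [(show Commute u v from hc u v).mul_pow, hu', hv', one_mul]
  rcases Nat.eq_zero_or_pos (max i j) with hm | hm
  · have hi0 : i = 0 := by omega
    have hj0 : j = 0 := by omega
    refine ⟨0, by rw [hi, hi0], by rw [hj, hj0], ?_, fun x => by simpa [hm] using hexp x⟩
    rw [hi0, pow_zero, orderOf_eq_one_iff] at hi
    simp [hi]
  obtain ⟨k, hk⟩ : ∃ k, max i j = k + 1 := ⟨max i j - 1, by omega⟩
  rw [hk] at hexp
  let f : X →* X :=
    { toFun := fun x => x ^ 2 ^ k
      map_one' := one_pow _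
      map_mul' := fun x y => (show Commute x y from hc x y).mul_pow _ }
  have hf : ∀ x, f x = x ^ 2 ^ k := fun _ => rfl
  have hf2 : ∀ x, f x ^ 2 = 1 := fun x => by rw [hf, ← pow_mul, ← pow_succ, hexp]
  have hrange : f.range = Subgroup.zpowers (f a) ⊔ Subgroup.zpowers (f b) := by
    rw [MonoidHom.range_eq_map, ← hab, Subgroup.map_sup, MonoidHom.map_zpowers, MonoidHom.map_zpowers]
  have hne : f a ≠ 1 ∨ f b ≠ 1 := by
    by_contra! h
    rw [hf, hf] at h
    have h1 := Nat.pow_dvd_pow_iff_le_right (by norm_num : 1 < 2) |>.1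
      (hi ▸ orderOf_dvd_iff_pow_eq_one.2 h.1)
    have h2 := Nat.pow_dvd_pow_iff_le_right (by norm_num : 1 < 2) |>.1
      (hj ▸ orderOf_dvd_iff_pow_eq_one.2 h.2)
    omega
  have hbad : ∀ c : X, c ≠ 1 → c ^ 2 = 1 → f.range ≠ Subgroup.zpowers c := by
    intro c hc1 hc2 hr
    have hidx : f.ker.index = 2 := by
      rw [Subgroup.index_ker, hr, Nat.card_zpowers, orderOf_eq_prime hc2 hc1]
    refine hno _ hidx (Subgroup.eq_of_le_of_card_ge ?_
      (Subgroup.card_map_of_injective φ.injective).ge)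
    rintro _ ⟨x, hx, rfl⟩
    show (φ x) ^ 2 ^ k = 1
    rw [← map_pow, show x ^ 2 ^ k = 1 from hx, map_one]
  have ha1 : f a ≠ 1 := fun h => hbad (f b) (hne.resolve_left (not_not.2 h)) (hf2 b) (by
    rw [hrange, h, Subgroup.zpowers_one_eq_bot, bot_sup_eq])
  have hb1 : f b ≠ 1 := fun h => hbad (f a) ha1 (hf2 a) (by
    rw [hrange, h, Subgroup.zpowers_one_eq_bot, sup_bot_eq])
  have hfab : f a ≠ f b := fun h => hbad (f a) ha1 (hf2 a) (by rw [hrange, h, sup_idem])
  have hord : ∀ x : X, f x ≠ 1 → orderOf x = 2 ^ (k + 1) := fun x hx =>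
    orderOf_eq_prime_pow (hf x ▸ hx) (hexp x)
  have hinv : ∀ x w : X, f x ≠ 1 → w ∈ Subgroup.zpowers x → w ^ 2 = 1 → w ≠ 1 → w = f x := by
    intro x w hx hw hw2 hw1
    obtain ⟨t, rfl⟩ := Subgroup.mem_zpowers_iff.1 hw
    rw [← zpow_natCast, ← zpow_mul, ← orderOf_dvd_iff_zpow_eq_one, hord x hx] at hw2
    obtain ⟨q, hq⟩ := hw2
    push_cast at hq
    have ht : t = 2 ^ k * q := by rw [pow_succ] at hq; linarith
    have hfx : x ^ t = f x ^ q := by rw [hf, ht, ← zpow_natCast, ← zpow_mul]; push_cast; rfl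
    have hf2' : f x ^ (2 : ℤ) = 1 := by exact_mod_cast hf2 x
    rcases Int.even_or_odd' q with ⟨r, hr | hr⟩ <;> subst hr
    · exact absurd (by rw [hfx, zpow_mul, hf2', one_zpow]) hw1
    · rw [hfx, zpow_add, zpow_mul, hf2', one_zpow, one_mul, zpow_one]
  refine ⟨k + 1, hord a ha1, hord b hb1, ?_, hexp⟩
  by_contra hne'
  obtain ⟨w, hw, hw1⟩ := (Subgroup.bot_or_exists_ne_one _).resolve_left hne'
  obtain ⟨n, hn⟩ := IsPGroup.iff_orderOf.1 hX w
  rcases n with _ | n
  · exact hw1 (orderOf_eq_one_iff.1 (by simpa using hn))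
  have hz1 : w ^ 2 ^ n ≠ 1 := fun h => by
    have h1 := (Nat.pow_dvd_pow_iff_le_right (by norm_num : 1 < 2)).1
      (hn ▸ orderOf_dvd_iff_pow_eq_one.2 h)
    omega
  have hz2 : (w ^ 2 ^ n) ^ 2 = 1 := by rw [← pow_mul, ← pow_succ, ← hn, pow_orderOf_eq_one]
  exact hfab ((hinv a _ ha1 (pow_mem hw.1 _) hz2 hz1).symm.trans
    (hinv b _ hb1 (pow_mem hw.2 _) hz2 hz1))

/-- Metacyclic groups with derived subgroup of order two: the factor group is a four-group. -/
theorem index_commutator_eq_four (hX : IsPGroup 2 X) (hm : Cfsg.IsMetacyclic X) (φ : MulAut X)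
    (hno : ∀ M : Subgroup X, M.index = 2 → M.map φ.toMonoidHom ≠ M)
    (h2 : Nat.card (commutator X) = 2) : (commutator X).index = 4 := by
  have : Fact (Nat.Prime 2) := ⟨Nat.prime_two⟩
  set D := commutator X with hD
  set q := QuotientGroup.mk' D with hq
  have hc : ∀ x y : X ⧸ D, x * y = y * x := by
    intro x y
    obtain ⟨x, rfl⟩ := QuotientGroup.mk'_surjective D x
    obtain ⟨y, rfl⟩ := QuotientGroup.mk'_surjective D y
    rw [← commutatorElement_eq_one_iff_mul_comm, ← map_commutatorElement]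
    exact (QuotientGroup.eq_one_iff _).2
      (Subgroup.commutator_mem_commutator (Subgroup.mem_top x) (Subgroup.mem_top y))
  have hDφ : D.map φ.toMonoidHom = D := Subgroup.characteristic_iff_map_eq.1 inferInstance φ
  let ψ : MulAut (X ⧸ D) := QuotientGroup.congr D D φ hDφ
  have hψ : ∀ x, ψ (q x) = q (φ x) := fun x => rfl
  obtain ⟨a, b, hab⟩ := exists_two_gen hm
  have hnoq : ∀ M : Subgroup (X ⧸ D), M.index = 2 → M.map ψ.toMonoidHom ≠ M := by
    intro M hM he
    refine hno (M.comap q)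
      (by rw [Subgroup.index_comap_of_surjective _ (QuotientGroup.mk'_surjective D), hM])
      (Subgroup.eq_of_le_of_card_ge ?_ (Subgroup.card_map_of_injective φ.injective).ge)
    rintro _ ⟨x, hx, rfl⟩
    show q (φ x) ∈ M
    rw [← hψ, ← he]
    exact ⟨q x, hx, rfl⟩
  have habq : Subgroup.zpowers (q a) ⊔ Subgroup.zpowers (q b) = ⊤ := by
    rw [← MonoidHom.map_zpowers, ← MonoidHom.map_zpowers, ← Subgroup.map_sup, hab,
      Subgroup.map_top_of_surjective _ (QuotientGroup.mk'_surjective D)]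
  obtain ⟨m, ha, hb, hdis, hexp⟩ := homocyclic_of_moved (hX.to_quotient D) hc habq ψ hnoq
  -- the order of `X / D` is `4 ^ m`
  have hA : ∀ x y : X ⧸ D, x ∈ Subgroup.zpowers (q a) → y ∈ Subgroup.zpowers (q b) →
      Commute x y := fun x y _ _ => hc x y
  let P : ↥(Subgroup.zpowers (q a)) × ↥(Subgroup.zpowers (q b)) →* X ⧸ D :=
    (Subgroup.zpowers (q a)).subtype.noncommCoprod (Subgroup.zpowers (q b)).subtype
      fun x y => hA x y x.2 y.2
  have hP : Function.Bijective P := by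
    refine ⟨(injective_iff_map_eq_one P).2 fun ⟨x, y⟩ h => ?_, fun z => ?_⟩
    · have h' : (x : X ⧸ D) * y = 1 := h
      have hxy : (x : X ⧸ D) ∈ Subgroup.zpowers (q a) ⊓ Subgroup.zpowers (q b) :=
        ⟨x.2, by rw [eq_inv_of_mul_eq_one_left h']; exact Subgroup.inv_mem _ y.2⟩
      rw [hdis, Subgroup.mem_bot] at hxy
      refine Prod.ext (Subtype.ext hxy) (Subtype.ext ?_)
      rw [hxy, one_mul] at h'
      exact h'
    · haveI : (Subgroup.zpowers (q a)).Normal := ⟨fun w hw g => by rwa [hc g w, mul_inv_cancel_right]⟩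
      obtain ⟨u, hu, v, hv, rfl⟩ := Subgroup.mem_sup_of_normal_left.1 (habq ▸ Subgroup.mem_top z)
      exact ⟨(⟨u, hu⟩, ⟨v, hv⟩), rfl⟩
  have hcard : Nat.card (X ⧸ D) = 2 ^ m * 2 ^ m := by
    rw [← Nat.card_congr (Equiv.ofBijective P hP), Nat.card_prod, Nat.card_zpowers, Nat.card_zpowers,
      ha, hb]
  rw [Subgroup.index_eq_card, hcard]
  rcases m with _ | _ | m
  · exfalso
    rw [pow_zero, one_mul, ← Subgroup.index_eq_card, Subgroup.index_eq_one] at hcard
    haveI : Nontrivial X := by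
      have : 1 < Nat.card X := lt_of_lt_of_le (by omega : 1 < Nat.card D) (Subgroup.card_le_card_group D)
      exact Finite.one_lt_card_iff_nontrivial.1 this
    have := hX.isNilpotent
    exact (Group.IsSolvable.commutator_lt_top_of_nontrivial X).ne hcard
  · norm_num
  exfalso
  -- the map `x ↦ x ^ (2 ^ (m + 2))` into `D`
  have hDc : D ≤ Subgroup.center X := PGroups.le_center_of_card_eq_prime hX h2
  have hsq : ∀ c ∈ D, c ^ 2 = 1 := fun c hc' => by
    have := congrArg Subtype.val (pow_card_eq_one' (x := (⟨c, hc'⟩ : D)))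
    rwa [h2] at this
  obtain ⟨r, hr⟩ : 2 ∣ Nat.choose (2 ^ (m + 2)) 2 := by
    refine ⟨2 ^ m * (2 ^ (m + 2) - 1), ?_⟩
    rw [Nat.choose_two_right, show 2 ^ (m + 2) = 2 * (2 * 2 ^ m) by ring, Nat.mul_assoc 2,
      Nat.mul_div_cancel_left _ two_pos]
    ring
  let f : X →* X :=
    { toFun := fun x => x ^ 2 ^ (m + 2)
      map_one' := one_pow _
      map_mul' := fun x y => by
        have hm' : ⁅y, x⁆ ∈ D :=
          Subgroup.commutator_mem_commutator (Subgroup.mem_top y) (Subgroup.mem_top x)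
        rw [PGroups.mul_pow_of_commute
          (show Commute ⁅y, x⁆ x from (Subgroup.mem_center_iff.1 (hDc hm') x).symm)
          (show Commute ⁅y, x⁆ y from (Subgroup.mem_center_iff.1 (hDc hm') y).symm),
          hr, pow_mul, hsq _ hm', one_pow, mul_one] }
  have hfD : ∀ x, f x ∈ D := fun x => (QuotientGroup.eq_one_iff _).1 (by
    show q (x ^ 2 ^ (m + 2)) = 1
    rw [map_pow]; exact hexp _)
  -- an element of larger order
  obtain ⟨N, hN, hNc, hQc⟩ := hm
  have hDN : D ≤ N := by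
    rw [hD, commutator_def, Subgroup.commutator_le]
    intro x _ y _
    letI := IsCyclic.commGroup (α := X ⧸ N)
    refine (QuotientGroup.eq_one_iff _).1 ?_
    show QuotientGroup.mk' N ⁅x, y⁆ = 1
    rw [map_commutatorElement, commutatorElement_eq_one_iff_mul_comm, mul_comm]
  obtain ⟨u, hu⟩ := hNc.exists_generator
  obtain ⟨v, hv⟩ := hQc.exists_generator
  have hvord : orderOf v ≤ 2 ^ (m + 2) := by
    obtain ⟨w, rfl⟩ := QuotientGroup.mk'_surjective N v
    refine Nat.le_of_dvd (by positivity) (orderOf_dvd_of_pow_eq_one ?_)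
    rw [← map_pow]
    exact (QuotientGroup.eq_one_iff _).2 (hDN (hfD w))
  have hQcard : Nat.card (X ⧸ N) ≤ 2 ^ (m + 2) := by
    rwa [← orderOf_eq_card_of_forall_mem_zpowers hv]
  have hNcard : 2 ^ (m + 3) ≤ Nat.card N := by
    have h1 := N.card_mul_index
    have h3 := D.card_mul_index
    rw [Subgroup.index_eq_card] at h1 h3
    rw [h2, hcard] at h3
    have h4 : 0 < 2 ^ (m + 2) := by positivity
    refine Nat.le_of_mul_le_mul_right ?_ h4
    calc 2 ^ (m + 3) * 2 ^ (m + 2) = Nat.card X := by rw [← h3]; ring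
      _ ≤ Nat.card N * 2 ^ (m + 2) := by rw [← h1]; exact Nat.mul_le_mul_left _ hQcard
  have hfu : f (u : X) ≠ 1 := by
    intro h
    have h1 := Nat.le_of_dvd (by positivity) (orderOf_dvd_of_pow_eq_one (show u ^ 2 ^ (m + 2) = 1 from
      Subtype.ext (by rw [SubmonoidClass.coe_pow, OneMemClass.coe_one]; exact h)))
    rw [orderOf_eq_card_of_forall_mem_zpowers hu] at h1
    have := Nat.pow_lt_pow_right (by norm_num : 1 < 2) (show m + 2 < m + 3 by omega)
    omega
  have hidx : f.ker.index = 2 := by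
    rw [Subgroup.index_ker]
    have hle : f.range ≤ D := by rintro _ ⟨x, rfl⟩; exact hfD x
    have hd := Subgroup.card_dvd_of_le hle
    rw [h2] at hd
    refine ((Nat.dvd_prime Nat.prime_two).1 hd).resolve_left fun h => hfu ?_
    exact Subgroup.mem_bot.1 (Subgroup.eq_bot_of_card_eq _ h ▸ ⟨(u : X), rfl⟩)
  refine hno _ hidx (Subgroup.eq_of_le_of_card_ge ?_
    (Subgroup.card_map_of_injective φ.injective).ge)
  rintro _ ⟨x, hx, rfl⟩
  show (φ x) ^ 2 ^ (m + 2) = 1
  rw [← map_pow, show x ^ 2 ^ (m + 2) = 1 from hx, map_one]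

/-- An automorphism of odd order fixing a subgroup of index two of a metacyclic 2-group is
trivial. -/
theorem eq_one_of_fix_index_two (hX : IsPGroup 2 X) (hm : Cfsg.IsMetacyclic X) {φ : MulAut X} {k : ℕ}
    (hk : Odd k) (hφk : φ ^ k = 1) {M : Subgroup X} (hM : M.index = 2)
    (hfix : M.map φ.toMonoidHom = M) : φ = 1 := by
  have : Fact (Nat.Prime 2) := ⟨Nat.prime_two⟩
  haveI hMn : M.Normal := Subgroup.normal_of_index_eq_two hM
  set Φ := frattini X
  have hpow : ∀ g : X, g ^ 2 ∈ Φ := PGroups.pow_mem_frattini hX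
  have hDΦ := PGroups.commutator_le_frattini hX
  have hΦM : Φ ≤ M := frattini_le_coatom (isCoatom_of_index_prime (hM ▸ Nat.prime_two))
  have hcΦ : ∀ x y : X, QuotientGroup.mk' Φ x * QuotientGroup.mk' Φ y =
      QuotientGroup.mk' Φ y * QuotientGroup.mk' Φ x := fun x y => by
    rw [← commutatorElement_eq_one_iff_mul_comm, ← map_commutatorElement]
    exact (QuotientGroup.eq_one_iff _).2
      (hDΦ (Subgroup.commutator_mem_commutator (Subgroup.mem_top x) (Subgroup.mem_top y)))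
  -- `M / Φ` has at most two elements
  obtain ⟨a, b, hab⟩ := exists_two_gen hm
  set qq := QuotientGroup.mk' Φ with hqq
  have hQ : Nat.card (X ⧸ Φ) ≤ 4 := by
    have hord : ∀ x : X, orderOf (qq x) ≤ 2 := fun x => Nat.le_of_dvd two_pos
      (orderOf_dvd_of_pow_eq_one (by rw [← map_pow]; exact (QuotientGroup.eq_one_iff _).2 (hpow x)))
    have htop : Subgroup.zpowers (qq a) ⊔ Subgroup.zpowers (qq b) = ⊤ := by
      rw [← MonoidHom.map_zpowers, ← MonoidHom.map_zpowers, ← Subgroup.map_sup, hab,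
        Subgroup.map_top_of_surjective _ (QuotientGroup.mk'_surjective Φ)]
    haveI : (Subgroup.zpowers (qq a)).Normal := ⟨fun w hw g => by
      obtain ⟨g, rfl⟩ := QuotientGroup.mk'_surjective Φ g
      obtain ⟨w, rfl⟩ := QuotientGroup.mk'_surjective Φ w
      rwa [hcΦ g w, mul_inv_cancel_right]⟩
    have hsurj : Function.Surjective
        (fun w : Subgroup.zpowers (qq a) × Subgroup.zpowers (qq b) => (w.1 : X ⧸ Φ) * w.2) := fun z => by
      obtain ⟨u, hu, v, hv, rfl⟩ := Subgroup.mem_sup_of_normal_left.1 (htop ▸ Subgroup.mem_top z)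
      exact ⟨(⟨u, hu⟩, ⟨v, hv⟩), rfl⟩
    refine (Nat.card_le_card_of_surjective _ hsurj).trans ?_
    rw [Nat.card_prod, Nat.card_zpowers, Nat.card_zpowers]
    exact Nat.mul_le_mul (hord a) (hord b)
  have hidxM : (Φ.subgroupOf M).index ≤ 2 := by
    have h1 := Subgroup.relIndex_mul_index hΦM
    rw [hM, Subgroup.index_eq_card Φ] at h1
    show Φ.relIndex M ≤ 2
    omega
  -- so `φ` fixes `M / Φ`
  have hΦφ : ∀ x ∈ Φ, φ x ∈ Φ := fun x hx => by
    rw [← Subgroup.characteristic_iff_map_eq.1 (inferInstance : Φ.Characteristic) φ]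
    exact ⟨x, hx, rfl⟩
  have hMfix : ∀ x ∈ M, x⁻¹ * φ x ∈ Φ := by
    intro x hx
    have hφx : φ x ∈ M := hfix ▸ ⟨x, hx, rfl⟩
    by_cases h : x ∈ Φ
    · exact mul_mem (inv_mem h) (hΦφ x h)
    have h' : φ x ∉ Φ := fun hh => h (by
      obtain ⟨y, hy, hxy⟩ := ((Subgroup.characteristic_iff_map_eq.1
        (inferInstance : Φ.Characteristic) φ).symm ▸ hh : φ x ∈ Φ.map φ.toMonoidHom)
      rwa [← φ.injective hxy])
    haveI hn : (Φ.subgroupOf M).Normal := inferInstance
    have hi2 : (Φ.subgroupOf M).index = 2 := by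
      refine le_antisymm hidxM ?_
      by_contra hlt
      have h1 : (Φ.subgroupOf M).index = 1 := by
        have := Subgroup.index_ne_zero_of_finite (H := Φ.subgroupOf M)
        omega
      rw [Subgroup.index_eq_one, Subgroup.subgroupOf_eq_top] at h1
      exact h (h1 hx)
    have := (Subgroup.mul_mem_iff_of_index_two hi2 (a := ⟨x⁻¹, inv_mem hx⟩) (b := ⟨φ x, hφx⟩)).2
      (by simp only [Subgroup.mem_subgroupOf, inv_mem_iff]; exact iff_of_false h h')
    exact this
  obtain ⟨g, hg⟩ : ∃ g, g ∉ M := by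
    by_contra! hall
    rw [Subgroup.index_eq_one.2 ((Subgroup.eq_top_iff' M).2 hall)] at hM
    omega
  have hφg : φ g ∉ M := fun h => hg (by
    rw [← hfix] at h
    obtain ⟨y, hy, hyg⟩ := h
    rwa [← φ.injective hyg])
  set d := g⁻¹ * φ g with hd
  have hdM : d ∈ M := (Subgroup.mul_mem_iff_of_index_two hM).2
    (by rw [inv_mem_iff]; exact iff_of_false hg hφg)
  clear_value d
  have key : ∀ i : ℕ, qq ((φ ^ i) g) = qq g * qq d ^ i := by
    intro i
    induction i with
    | zero => simp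
    | succ i ih =>
      have hψ : ∀ x y : X, qq x = qq y → qq (φ x) = qq (φ y) := fun x y h => by
        rw [QuotientGroup.mk'_eq_mk'] at h ⊢
        obtain ⟨z, hz, rfl⟩ := h
        exact ⟨φ z, hΦφ z hz, (map_mul φ x z).symm⟩
      rw [pow_succ', MulAut.mul_apply, hψ _ (g * d ^ i) (by rw [ih, map_mul, map_pow]),
        map_mul, map_mul, map_pow, map_pow, pow_succ']
      have h1 : qq (φ d) = qq d := by
        rw [eq_comm, QuotientGroup.mk'_eq_mk']
        exact ⟨d⁻¹ * φ d, hMfix d hdM, by group⟩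
      rw [h1, show φ g = g * d by rw [hd]; group, map_mul, mul_assoc]
  have hdΦ : d ∈ Φ := by
    have h1 := key k
    rw [hφk, MulAut.one_apply, eq_comm, mul_eq_left] at h1
    have h2 : qq d ^ 2 ^ 1 = 1 := by
      rw [pow_one, ← map_pow]; exact (QuotientGroup.eq_one_iff _).2 (hpow d)
    exact (QuotientGroup.eq_one_iff _).1 (eq_one_of_pow_odd hk h1 h2)
  refine CfsgLib.CoprimeAction.aut_eq_one_of_frattini ?_ fun x => ?_
  · obtain ⟨l, hl⟩ := IsPGroup.iff_card.1 (hX.to_subgroup (frattini X))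
    rw [hl]
    refine (Nat.Coprime.pow_right l ?_).coprime_dvd_left (orderOf_dvd_of_pow_eq_one hφk)
    exact Nat.coprime_two_right.2 hk
  · by_cases hx : x ∈ M
    · exact hMfix x hx
    have hm : g⁻¹ * x ∈ M := (Subgroup.mul_mem_iff_of_index_two hM).2
      (by rw [inv_mem_iff]; exact iff_of_false hg hx)
    rw [show x⁻¹ * φ x = (g⁻¹ * x)⁻¹ * d * φ (g⁻¹ * x) by rw [hd, map_mul, map_inv]; group]
    have h1 := mul_mem ((inferInstance : Φ.Normal).conj_mem d hdΦ (g⁻¹ * x)⁻¹) (hMfix _ hm)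
    rwa [show (g⁻¹ * x)⁻¹ * d * (g⁻¹ * x)⁻¹⁻¹ * ((g⁻¹ * x)⁻¹ * φ (g⁻¹ * x)) =
      (g⁻¹ * x)⁻¹ * d * φ (g⁻¹ * x) by group] at h1

end CfsgLib.TwoGroups
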