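/-
A 2-group `W` with a noncyclic abelian odd `p`-group of automorphisms, each nontrivial one fixing at
most one involution: `W` is extraspecial of order 2^5, 2^7 or 2^9 and the automorphism group has
order 9.
-/
import Cfsg.Prelude.Def_Transfer
import Cfsg.Agent.Lib.TwoGroups.RankOne
import Cfsg.Agent.Lib.TwoGroups.Aut
import Cfsg.Agent.Lib.CoprimeAction.Abelian
import Cfsg.Agent.Lib.CoprimeAction.Aut
import Cfsg.Agent.Lib.PGroups.Frattini
import Cfsg.Agent.Lib.PSolvable.FrattiniFacts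
import Cfsg.Agent.Lib.Cores.Basic
import Cfsg.Agent.Lib.NormalPComplement.Replacement

set_option autoImplicit false
set_option linter.unusedSectionVars false
set_option linter.style.haveILetI false

open scoped commutatorElement

namespace CfsgLib.TwoGroups.OneInv

variable {W : Type*} [Group W]

/-- The fixed points of an automorphism. -/
def fix (a : MulAut W) : Subgroup W where
  carrier := {x | a x = x}
  one_mem' := map_one a
  mul_mem' := fun {x y} hx hy => by
    show a (x * y) = x * y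
    rw [map_mul, show a x = x from hx, show a y = y from hy]
  inv_mem' := fun {x} hx => by
    show a x⁻¹ = x⁻¹
    rw [map_inv, show a x = x from hx]

theorem mem_fix {a : MulAut W} {x : W} : x ∈ fix a ↔ a x = x := Iff.rfl

/-- The common fixed points of `E`. -/
def fixAll (E : Subgroup (MulAut W)) : Subgroup W := ⨅ e : E, fix (e : MulAut W)

theorem mem_fixAll {E : Subgroup (MulAut W)} {x : W} :
    x ∈ fixAll E ↔ ∀ e ∈ E, e x = x := by
  simp [fixAll, Subgroup.mem_iInf, mem_fix]

variable [Finite W]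

/-- An invariant subgroup inherits the automorphism. -/
noncomputable def restr (a : MulAut W) (V : Subgroup W) (h : ∀ v ∈ V, a v ∈ V) : MulAut V :=
  MulEquiv.ofBijective ((a.toMonoidHom.comp V.subtype).codRestrict V fun v => h v v.2)
    (Finite.injective_iff_bijective.1 fun x y hxy =>
      Subtype.ext (a.injective (congrArg Subtype.val hxy)))

theorem restr_apply (a : MulAut W) (V : Subgroup W) (h : ∀ v ∈ V, a v ∈ V) (v : V) :
    (restr a V h v : W) = a v := rfl

theorem restr_pow (a : MulAut W) (V : Subgroup W) (h : ∀ v ∈ V, a v ∈ V) (k : ℕ) (v : V) :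
    ((restr a V h ^ k) v : W) = (a ^ k) v := by
  induction k with
  | zero => simp
  | succ k ih => rw [pow_succ', pow_succ', MulAut.mul_apply, MulAut.mul_apply, restr_apply, ih]

/-- An odd order automorphism acts trivially on an invariant subgroup whose automorphism group is a
2-group. -/
theorem fixes_of_aut_two {a : MulAut W} (ha : Odd (orderOf a)) {V : Subgroup W}
    (h : ∀ v ∈ V, a v ∈ V) (hV : IsPGroup 2 (MulAut V)) {v : W} (hv : v ∈ V) : a v = v := by
  obtain ⟨l, hl⟩ := hV (restr a V h)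
  have h1 : restr a V h ^ orderOf a = 1 := by
    refine MulEquiv.ext fun w => Subtype.ext ?_
    rw [restr_pow, pow_orderOf_eq_one]; rfl
  have h2 := eq_one_of_pow_odd ha h1 hl
  have h3 := congrArg (fun b : MulAut V => (b ⟨v, hv⟩ : W)) h2
  simpa [restr_apply] using h3

/-- An odd order automorphism stabilizing an index two subgroup and fixing it pointwise is trivial on
the overgroup. -/
theorem fixes_of_index_two {a : MulAut W} (ha : Odd (orderOf a)) {V : Subgroup W}
    (hW : IsPGroup 2 W) (hinv : ∀ v ∈ V, a v ∈ V) {N : Subgroup W} (hNV : N ≤ V)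
    (hi : Nat.card V ≤ 2 * Nat.card N) (hfix : ∀ n ∈ N, a n = n) {v : W} (hv : v ∈ V) :
    a v = v := by
  by_cases hvN : v ∈ N
  · exact hfix v hvN
  have h2 : N.relIndex V = 2 := by
    have h1 := Subgroup.card_mul_index (N.subgroupOf V)
    rw [Nat.card_congr (Subgroup.subgroupOfEquivOfLe hNV).toEquiv] at h1
    have h3 : (N.subgroupOf V).index ≤ 2 := Nat.le_of_mul_le_mul_left
      (by rw [h1]; exact hi.trans (mul_comm 2 _).le) Nat.card_pos
    have h4 : (N.subgroupOf V).index ≠ 1 := fun e =>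
      hvN (Subgroup.subgroupOf_eq_top.1 (Subgroup.index_eq_one.1 e) hv)
    have h5 : 0 < (N.subgroupOf V).index := Nat.pos_of_ne_zero Subgroup.index_ne_zero_of_finite
    show (N.subgroupOf V).index = 2
    omega
  have hav : a v ∉ N := fun hc => hvN (by
    have h3 := hfix _ hc
    rwa [a.injective h3] at hc)
  have hmem : v⁻¹ * a v ∈ N := by
    have h6 := Subgroup.mul_mem_iff_of_index_two h2 (a := (⟨v⁻¹, inv_mem hv⟩ : V))
      (b := ⟨a v, hinv v hv⟩)
    simp only [Subgroup.mem_subgroupOf, Subgroup.coe_mul, inv_mem_iff, hvN, hav] at h6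
    exact h6.2 trivial
  have hpow : ∀ k : ℕ, (a ^ k) v = v * (v⁻¹ * a v) ^ k := by
    intro k
    induction k with
    | zero => simp
    | succ k ih =>
      rw [pow_succ', MulAut.mul_apply, ih, map_mul, map_pow, hfix _ hmem, pow_succ']
      simp [mul_assoc]
  obtain ⟨l, hl⟩ := hW (v⁻¹ * a v)
  have h1 : (v⁻¹ * a v) ^ orderOf a = 1 := by
    simpa [pow_orderOf_eq_one] using (hpow (orderOf a)).symm
  exact (inv_mul_eq_one.1 (eq_one_of_pow_odd ha h1 hl)).symm

/-- Generation by fixed subgroups of a noncyclic abelian group of automorphisms. -/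
theorem le_of_fix {E : Subgroup (MulAut W)} (hab : IsMulCommutative E) (hnc : ¬ IsCyclic E)
    (hcop : (Nat.card E).Coprime (Nat.card W)) {K H : Subgroup W}
    (hK : ∀ e ∈ E, ∀ k ∈ K, e k ∈ K)
    (hH : ∀ e ∈ E, e ≠ 1 → ∀ k ∈ K, e k = k → k ∈ H) : K ≤ H := by
  let φ : E →* MulAut W := E.subtype
  haveI := CoprimeAction.finite_semidirect φ
  let i : W →* W ⋊[φ] E := SemidirectProduct.inl
  let j : E →* W ⋊[φ] E := SemidirectProduct.inr
  have hj : Function.Injective j := SemidirectProduct.inr_injective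
  have hi : Function.Injective i := SemidirectProduct.inl_injective
  haveI : IsMulCommutative j.range := ⟨⟨by
    rintro ⟨_, a, rfl⟩ ⟨_, b, rfl⟩
    exact Subtype.ext (show j a * j b = j b * j a by rw [← map_mul, ← map_mul, hab.is_comm.comm])⟩⟩
  have hnc' : ¬ IsCyclic j.range := fun hc => hnc
    (isCyclic_of_surjective (MonoidHom.ofInjective hj).symm (MulEquiv.surjective _))
  have hcop' : (Nat.card j.range).Coprime (Nat.card (K.map i)) := by
    rw [← Nat.card_congr (MonoidHom.ofInjective hj).toEquiv, Subgroup.card_map_of_injective hi]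
    exact hcop.coprime_dvd_right (Subgroup.card_subgroup_dvd_card K)
  have h := CoprimeAction.le_of_centralizers (H := H.map i) hnc'
    (CoprimeAction.inr_le_normalizer_map_inl (φ := φ) fun a => hK a a.2) hcop' ?_
  · exact (Subgroup.map_le_map_iff_of_injective hi).1 h
  rintro _ ⟨a, rfl⟩ ha x ⟨⟨k, hk, rfl⟩, hx⟩
  refine ⟨k, hH a a.2 (fun e => ha (by rw [show a = 1 from Subtype.ext e, map_one])) k hk ?_, rfl⟩
  refine hi ?_
  have h1 := Subgroup.mem_centralizer_singleton_iff.1 hx
  show i (φ a k) = i k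
  rw [SemidirectProduct.inl_aut, map_inv]
  exact mul_inv_eq_iff_eq_mul.2 h1.symm

section Main

variable {p : ℕ} [hp : Fact p.Prime]

/-- The hypothesis. -/
structure Hyp (p : ℕ) (E : Subgroup (MulAut W)) : Prop where
  two : IsPGroup 2 W
  odd : p ≠ 2
  grp : IsPGroup p E
  comm : IsMulCommutative E
  noncyclic : ¬ IsCyclic E
  unique : ∀ e ∈ E, e ≠ 1 → ∀ x y : W, orderOf x = 2 → orderOf y = 2 → e x = x → e y = y → x = y

namespace Hyp

variable {E : Subgroup (MulAut W)} (h : Hyp p E)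
include h

theorem odd_orderOf {e : MulAut W} (he : e ∈ E) : Odd (orderOf e) := by
  obtain ⟨k, hk⟩ := IsPGroup.iff_orderOf.1 h.grp ⟨e, he⟩
  rw [Subgroup.orderOf_mk] at hk
  rw [hk]
  exact (hp.out.odd_of_ne_two h.odd).pow

theorem coprime : (Nat.card E).Coprime (Nat.card W) := by
  obtain ⟨a, ha⟩ := IsPGroup.iff_card.1 h.grp
  obtain ⟨b, hb⟩ := IsPGroup.iff_card.1 h.two
  rw [ha, hb]
  exact (Nat.Coprime.pow a b ((Nat.coprime_primes hp.out Nat.prime_two).2 h.odd))

theorem gen {K H : Subgroup W} (hK : ∀ e ∈ E, ∀ k ∈ K, e k ∈ K)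
    (hH : ∀ e ∈ E, e ≠ 1 → ∀ k ∈ K, e k = k → k ∈ H) : K ≤ H :=
  le_of_fix h.comm h.noncyclic h.coprime hK hH

theorem fix_invariant {a : MulAut W} (ha : a ∈ E) {e : MulAut W} (he : e ∈ E) {x : W}
    (hx : x ∈ fix a) : e x ∈ fix a := by
  show a (e x) = e x
  have hc : a * e = e * a := congrArg Subtype.val (h.comm.is_comm.comm (⟨a, ha⟩ : E) ⟨e, he⟩)
  rw [← MulAut.mul_apply, hc, MulAut.mul_apply, show a x = x from hx]

theorem uniqueOrderP {a : MulAut W} (ha : a ∈ E) (ha1 : a ≠ 1) : UniqueOrderP 2 (fix a) := by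
  refine uniqueOrderP_iff_unique_involution.2 fun x y hx hy => Subtype.ext ?_
  exact h.unique a ha ha1 x y (by rwa [Subgroup.orderOf_coe]) (by rwa [Subgroup.orderOf_coe]) x.2 y.2

/-- `fix a` is fixed by `E` or has order eight. -/
theorem fix_cases {a : MulAut W} (ha : a ∈ E) (ha1 : a ≠ 1) :
    fix a ≤ fixAll E ∨ Nat.card (fix a) = 8 := by
  haveI : Fact (Nat.Prime 2) := ⟨Nat.prime_two⟩
  have htriv : IsPGroup 2 (MulAut (fix a)) → fix a ≤ fixAll E := fun hA x hx =>
    mem_fixAll.2 fun e he =>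
      fixes_of_aut_two (h.odd_orderOf he) (fun v hv => h.fix_invariant ha he hv) hA hx
  rcases isCyclic_or_quaternion (h.two.to_subgroup (fix a)) (h.uniqueOrderP ha ha1) with
    hc | ⟨-, m, hm, ⟨f⟩⟩
  · exact Or.inl (htriv (isPGroup_mulAut_of_isCyclic (h.two.to_subgroup _)))
  rcases hm.eq_or_lt with rfl | hm2
  · right
    rw [Nat.card_congr f.toEquiv, Nat.card_eq_fintype_card, QuaternionGroup.card]
    rfl
  · exact Or.inl (htriv (isPGroup_mulAut_congr f.symm (isPGroup_mulAut_quaternion hm2)))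

/-- An invariant abelian subgroup is fixed. -/
theorem abelian_le {V : Subgroup W} (hV : ∀ e ∈ E, ∀ v ∈ V, e v ∈ V)
    (hab : IsMulCommutative V) : V ≤ fixAll E := by
  haveI : Fact (Nat.Prime 2) := ⟨Nat.prime_two⟩
  refine h.gen hV fun a ha ha1 v hv hfix => mem_fixAll.2 fun e he => ?_
  let U : Subgroup W := V ⊓ fix a
  have hu : UniqueOrderP 2 U :=
    (h.uniqueOrderP ha ha1).of_injective (Subgroup.inclusion inf_le_right)
      (Subgroup.inclusion_injective inf_le_right)
  letI : CommGroup U :=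
    { (inferInstance : Group U) with
      mul_comm := fun x y => Subtype.ext (congrArg (Subtype.val)
        (hab.is_comm.comm (⟨x, x.2.1⟩ : V) ⟨y, y.2.1⟩) :) }
  haveI : IsCyclic U := isCyclic_of_uniqueOrderP_comm (h.two.to_subgroup U) hu
  exact fixes_of_aut_two (h.odd_orderOf he) (V := U)
    (fun w hw => ⟨hV e he w hw.1, h.fix_invariant ha he hw.2⟩)
    (isPGroup_mulAut_of_isCyclic (h.two.to_subgroup U)) ⟨hv, hfix⟩

theorem exists_moving : ∃ a ∈ E, a ≠ 1 ∧ ¬ fix a ≤ fixAll E := by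
  by_contra hall
  push Not at hall
  have htop : (⊤ : Subgroup W) ≤ fixAll E :=
    h.gen (fun _ _ _ _ => trivial) fun e he he1 k _ hk => hall e he he1 hk
  refine h.noncyclic ?_
  have hb : E = ⊥ := (Subgroup.eq_bot_iff_forall E).2 fun e he =>
    MulEquiv.ext fun x => mem_fixAll.1 (htop (Subgroup.mem_top x)) e he
  rw [hb]; infer_instance

theorem nontrivial : Nontrivial W := by
  obtain ⟨a, -, -, hle⟩ := h.exists_moving
  obtain ⟨x, -, hx⟩ := SetLike.not_le_iff_exists.1 hle
  exact ⟨x, 1, fun e => hx (e ▸ one_mem _)⟩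

theorem fixAll_le_fix {a : MulAut W} (ha : a ∈ E) : fixAll E ≤ fix a := fun _ hx =>
  mem_fixAll.1 hx a ha

/-- The fixed points are the centre, of order two. -/
theorem center_eq : fixAll E = Subgroup.center W ∧ Nat.card (Subgroup.center W) = 2 := by
  haveI : Fact (Nat.Prime 2) := ⟨Nat.prime_two⟩
  haveI := h.nontrivial
  have hc : Subgroup.center W ≤ fixAll E := h.abelian_le (fun e _ v hv =>
    Subgroup.mem_center_iff.2 fun g => e.symm.injective (by
      simp [Subgroup.mem_center_iff.1 hv])) inferInstance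
  obtain ⟨k, hk⟩ := IsPGroup.iff_card.1 (h.two.to_subgroup (fixAll E))
  obtain ⟨j, hj⟩ := IsPGroup.iff_card.1 (h.two.to_subgroup (Subgroup.center W))
  have hle2 : Nat.card (fixAll E) ≤ 2 := by
    obtain ⟨a, ha, ha1, hle⟩ := h.exists_moving
    have h8 := (h.fix_cases ha ha1).resolve_left hle
    obtain ⟨x, hx, hxn⟩ := SetLike.not_le_iff_exists.1 hle
    obtain ⟨e, he, hex⟩ : ∃ e ∈ E, e x ≠ x := by
      by_contra hall
      push Not at hall
      exact hxn (mem_fixAll.2 hall)
    by_contra hgt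
    refine hex (fixes_of_index_two (h.odd_orderOf he) h.two (fun v hv => h.fix_invariant ha he hv)
      (h.fixAll_le_fix ha) ?_ (fun n hn => mem_fixAll.1 hn e he) hx)
    rw [h8, hk] at *
    have : 4 ≤ 2 ^ k := by
      rcases k with _ | _ | k
      · simp at hgt
      · simp at hgt
      · exact Nat.pow_le_pow_right (show 0 < 2 by norm_num) (show 2 ≤ k + 1 + 1 by omega)
    omega
  have hc2 : 2 ≤ Nat.card (Subgroup.center W) := by
    haveI := h.two.center_nontrivial
    exact Finite.one_lt_card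
  have hle := Nat.le_of_dvd Nat.card_pos (Subgroup.card_dvd_of_le hc)
  exact ⟨(Subgroup.eq_of_le_of_card_ge hc (by omega)).symm, by omega⟩

theorem fix_le_center_or {a : MulAut W} (ha : a ∈ E) (ha1 : a ≠ 1) :
    fix a ≤ Subgroup.center W ∨ Nat.card (fix a) = 8 := by
  rw [← h.center_eq.1]
  exact h.fix_cases ha ha1

/-- Class two. -/
theorem commutator_mem (x y : W) : ⁅x, y⁆ ∈ Subgroup.center W := by
  classical
  haveI : Fact (Nat.Prime 2) := ⟨Nat.prime_two⟩
  haveI := h.two.isNilpotent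
  obtain ⟨hZ, hZ2⟩ := h.center_eq
  set Z := Subgroup.center W with hZdef
  let K : Subgroup W :=
    { carrier := {k | ∀ w : W, ⁅k, w⁆ ∈ Z}
      one_mem' := fun w => by simp [commutatorElement_def, one_mem]
      mul_mem' := fun {a b} ha hb w => by
        have e : ⁅a * b, w⁆ = a * ⁅b, w⁆ * a⁻¹ * ⁅a, w⁆ := by
          simp [commutatorElement_def, mul_assoc]
        rw [e, Subgroup.mem_center_iff.1 (hb w) a, mul_inv_cancel_right]
        exact mul_mem (hb w) (ha w)
      inv_mem' := fun {a} ha w => by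
        have e : ⁅a⁻¹, w⁆ = a⁻¹ * (⁅a, w⁆)⁻¹ * a := by simp [commutatorElement_def, mul_assoc]
        rw [e, Subgroup.mem_center_iff.1 (inv_mem (ha w)) a⁻¹, inv_mul_cancel_right]
        exact inv_mem (ha w) }
  have hmemK : ∀ {k : W}, k ∈ K ↔ ∀ w : W, ⁅k, w⁆ ∈ Z := Iff.rfl
  have hZK : Z ≤ K := fun z hz => hmemK.2 fun w => by
    rw [commutatorElement_eq_one_iff_mul_comm.2 (Subgroup.mem_center_iff.1 hz w).symm]
    exact one_mem _
  have hKinv : ∀ e ∈ E, ∀ k ∈ K, e k ∈ K := fun e _ k hk => hmemK.2 fun w => by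
    have e1 : ⁅e k, w⁆ = e ⁅k, e.symm w⁆ := by
      rw [map_commutatorElement, MulEquiv.apply_symm_apply]
    rw [e1]
    exact Subgroup.mem_center_iff.2 fun g => e.symm.injective (by
      simp [Subgroup.mem_center_iff.1 (hmemK.1 hk (e.symm w))])
  have hKn : K.Normal := ⟨fun k hk g => by
    have e : g * k * g⁻¹ = (⁅k, g⁆)⁻¹ * k := by simp [commutatorElement_def, mul_assoc]
    rw [e]
    exact K.mul_mem (hZK (inv_mem (hmemK.1 hk g))) hk⟩
  have hsq : ∀ k ∈ K, k ^ 2 ∈ Z := fun k hk => by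
    refine Subgroup.mem_center_iff.2 fun w => ?_
    obtain ⟨c, hc⟩ : ∃ c, c = ⁅k, w⁆ := ⟨_, rfl⟩
    have hcZ : c ∈ Z := hc ▸ hmemK.1 hk w
    have hc2 : c ^ 2 = 1 := by
      have := pow_card_eq_one' (x := (⟨c, hcZ⟩ : Z))
      rw [hZ2] at this
      exact congrArg Subtype.val this
    have e : w * k * w⁻¹ = c⁻¹ * k := by rw [hc]; simp [commutatorElement_def, mul_assoc]
    have e2 : w * k ^ 2 * w⁻¹ = k ^ 2 := by
      have hcomm : Commute c⁻¹ k := (Subgroup.mem_center_iff.1 (inv_mem hcZ) k).symm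
      rw [← conj_pow, e, hcomm.mul_pow, inv_pow, hc2, inv_one, one_mul]
    exact mul_inv_eq_iff_eq_mul.1 e2
  let C : Subgroup W → Subgroup W := fun T => Subgroup.centralizer (T : Set W)
  -- centralizers of subgroups between `Z` and `K`
  have hcount : ∀ T : Subgroup W, Z ≤ T → T ≤ K → 2 * (C T).index ≤ Nat.card T := by
    suffices ∀ m (T : Subgroup W), Nat.card T = m → Z ≤ T → T ≤ K → 2 * (C T).index ≤ Nat.card T from
      fun T => this _ T rfl
    intro m
    induction m using Nat.strong_induction_on with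
    | _ m ih =>
    intro T hm hZT hTK
    rcases hZT.eq_or_lt with rfl | hlt
    · have : C Z = ⊤ := top_le_iff.1 fun w _ => Subgroup.mem_centralizer_iff.2 fun z hz =>
        (Subgroup.mem_center_iff.1 hz w).symm
      rw [this, Subgroup.index_top, mul_one, hZ2]
    obtain ⟨T₀, hT₀T, hT₀, hmax⟩ : ∃ T₀, T₀ < T ∧ Z ≤ T₀ ∧ ∀ S, T₀ < S → S < T → False := by
      obtain ⟨T₀, hmem, hmx⟩ := Set.Finite.exists_maximal
        (s := {S : Subgroup W | Z ≤ S ∧ S < T}) (Set.toFinite _) ⟨Z, le_rfl, hlt⟩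
      exact ⟨T₀, hmem.2, hmem.1, fun S hS hST =>
        hS.not_ge (hmx ⟨hmem.1.trans hS.le, hST⟩ hS.le)⟩
    obtain ⟨x, hxT, hx⟩ := SetLike.exists_of_lt hT₀T
    have hsup : T₀ ⊔ Subgroup.zpowers x = T := by
      have hle : T₀ ⊔ Subgroup.zpowers x ≤ T := sup_le hT₀T.le (Subgroup.zpowers_le.2 hxT)
      refine hle.eq_or_lt.resolve_right fun hlt' => hmax _ ?_ hlt'
      exact lt_of_le_of_ne le_sup_left fun e => hx (e ▸ Subgroup.mem_sup_right
        (Subgroup.mem_zpowers x))
    have hxK := hTK hxT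
    have hcard : Nat.card T₀ * 2 ≤ Nat.card T := by
      obtain ⟨d, hd⟩ := Subgroup.card_dvd_of_le hT₀T.le
      have hlt'' : Nat.card T₀ < Nat.card T := Set.Finite.card_lt_card (Set.toFinite _) hT₀T
      rw [hd]
      refine Nat.mul_le_mul le_rfl ?_
      by_contra h1
      interval_cases d <;> omega
    have hrel : (C T).relIndex (C T₀) ≤ 2 := by
      have hle : C T ≤ C T₀ := Subgroup.centralizer_le hT₀T.le
      let f : C T₀ →* Z :=
        { toFun := fun w => ⟨⁅x, (w : W)⁆, hmemK.1 hxK w⟩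
          map_one' := Subtype.ext (by simp [commutatorElement_def])
          map_mul' := fun u v => Subtype.ext (by
            show ⁅x, (u : W) * v⁆ = ⁅x, (u : W)⁆ * ⁅x, (v : W)⁆
            have e : ⁅x, (u : W) * v⁆ = ⁅x, (u : W)⁆ * (u * ⁅x, (v : W)⁆ * (u : W)⁻¹) := by
              simp [commutatorElement_def, mul_assoc]
            rw [e, Subgroup.mem_center_iff.1 (hmemK.1 hxK v) u, mul_inv_cancel_right]) }
      have hker : f.ker ≤ (C T).subgroupOf (C T₀) := by
        intro w hw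
        have hwx : ⁅x, (w : W)⁆ = 1 := congrArg Subtype.val hw
        rw [Subgroup.mem_subgroupOf, Subgroup.mem_centralizer_iff]
        intro t ht
        have hTle : T ≤ Subgroup.centralizer ({(w : W)} : Set W) := by
          rw [← hsup]
          refine sup_le (fun s hs => Subgroup.mem_centralizer_singleton_iff.2
            (Subgroup.mem_centralizer_iff.1 w.2 s hs)) (Subgroup.zpowers_le.2 ?_)
          exact Subgroup.mem_centralizer_singleton_iff.2
            (commutatorElement_eq_one_iff_mul_comm.1 hwx)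
        exact Subgroup.mem_centralizer_singleton_iff.1 (hTle ht)
      show ((C T).subgroupOf (C T₀)).index ≤ 2
      refine (Nat.le_of_dvd ?_ (Subgroup.index_dvd_of_le hker)).trans ?_
      · exact Nat.pos_of_ne_zero Subgroup.index_ne_zero_of_finite
      · rw [Subgroup.index_ker, ← hZ2]
        exact Subgroup.card_le_card_group _
    have hidx : (C T).index = (C T).relIndex (C T₀) * (C T₀).index :=
      (Subgroup.relIndex_mul_index (Subgroup.centralizer_le hT₀T.le)).symm
    have h0 := ih _ (hm ▸ Set.Finite.card_lt_card (Set.toFinite _) hT₀T) T₀ rfl hT₀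
      (hT₀T.le.trans hTK)
    rw [hidx]
    calc 2 * ((C T).relIndex (C T₀) * (C T₀).index) ≤ 2 * (2 * (C T₀).index) :=
          Nat.mul_le_mul le_rfl (Nat.mul_le_mul hrel le_rfl)
      _ ≤ 2 * Nat.card T₀ := by omega
      _ ≤ Nat.card T := by omega
  -- `Z(K) = Z`
  have hKL : K ⊓ C K = Z := by
    refine le_antisymm ?_ (le_inf hZK fun z hz => Subgroup.mem_centralizer_iff.2 fun k _ =>
      Subgroup.mem_center_iff.1 hz k)
    rw [← hZ]
    refine h.abelian_le (fun e he v hv => ⟨hKinv e he v hv.1, ?_⟩) ?_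
    · refine Subgroup.mem_centralizer_iff.2 fun k hk => ?_
      have hk' : e.symm k ∈ K := by
        have := hKinv e⁻¹ (inv_mem he) k hk
        exact this
      have := congrArg e (Subgroup.mem_centralizer_iff.1 hv.2 _ hk')
      simpa using this
    · exact ⟨⟨fun a b => Subtype.ext (Subgroup.mem_centralizer_iff.1 b.2.2 a a.2.1)⟩⟩
  have hLn : (C K).Normal := inferInstanceAs (Subgroup.centralizer (K : Set W)).Normal
  have hsup : K ⊔ C K = ⊤ := by
    refine Subgroup.eq_top_of_le_card _ ?_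
    have h1 := Cores.card_sup_dvd K (C K)
    have h2 := hcount K hZK le_rfl
    have h3 := (C K).card_mul_index
    have h4 := NormalPComplement.card_sup_mul_card_inf (A := K) (B := C K)
      (Subgroup.le_normalizer_of_normal)
    rw [hKL, hZ2] at h4
    nlinarith
  have hLZ : C K ≤ Z := by
    by_contra hle
    let π := QuotientGroup.mk' Z
    haveI : ((C K).map π).Normal := hLn.map π (QuotientGroup.mk'_surjective Z)
    have hne : (C K).map π ≠ ⊥ := fun e => hle (by
      rwa [Subgroup.map_eq_bot_iff, QuotientGroup.ker_mk'] at e)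
    obtain ⟨u, ⟨hu, huc⟩, hu1⟩ := (Subgroup.bot_or_exists_ne_one _).resolve_left
      (PSolvable.inf_center_ne_bot hne)
    obtain ⟨l, hl, rfl⟩ := hu
    have hlK : l ∈ K := hmemK.2 fun w => by
      refine (QuotientGroup.eq_one_iff _).1 ?_
      show π ⁅l, w⁆ = 1
      rw [map_commutatorElement, commutatorElement_eq_one_iff_mul_comm]
      exact (Subgroup.mem_center_iff.1 huc (π w)).symm
    exact hu1 ((QuotientGroup.eq_one_iff _).2 (hKL.le ⟨hlK, hl⟩))
  have hKtop : K = ⊤ := by
    rw [← hsup, sup_eq_left.2 (hLZ.trans hZK)]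
  exact hmemK.1 (hKtop ▸ Subgroup.mem_top x) y

theorem sq_mem (x : W) : x ^ 2 ∈ Subgroup.center W := by
  refine Subgroup.mem_center_iff.2 fun w => ?_
  obtain ⟨c, hc⟩ : ∃ c, c = ⁅x, w⁆ := ⟨_, rfl⟩
  have hcZ : c ∈ Subgroup.center W := hc ▸ h.commutator_mem x w
  have hc2 : c ^ 2 = 1 := by
    have := pow_card_eq_one' (x := (⟨c, hcZ⟩ : Subgroup.center W))
    rw [h.center_eq.2] at this
    exact congrArg Subtype.val this
  have e : w * x * w⁻¹ = c⁻¹ * x := by rw [hc]; simp [commutatorElement_def, mul_assoc]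
  have e2 : w * x ^ 2 * w⁻¹ = x ^ 2 := by
    have hcomm : Commute c⁻¹ x := (Subgroup.mem_center_iff.1 (inv_mem hcZ) x).symm
    rw [← conj_pow, e, hcomm.mul_pow, inv_pow, hc2, inv_one, one_mul]
  exact mul_inv_eq_iff_eq_mul.1 e2

theorem isExtraspecial : Cfsg.IsExtraspecial 2 W := by
  haveI : Fact (Nat.Prime 2) := ⟨Nat.prime_two⟩
  obtain ⟨hZ, hZ2⟩ := h.center_eq
  have hle : commutator W ≤ Subgroup.center W := by
    rw [commutator_def, Subgroup.commutator_le]
    exact fun x _ y _ => h.commutator_mem x y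
  have hne : commutator W ≠ ⊥ := by
    intro hb
    obtain ⟨a, -, -, hle'⟩ := h.exists_moving
    refine hle' fun x _ => hZ.symm ▸ Subgroup.mem_center_iff.2 fun g => ?_
    exact commutatorElement_eq_one_iff_mul_comm.1 (Subgroup.mem_bot.1 (hb ▸
      Subgroup.commutator_mem_commutator (Subgroup.mem_top g) (Subgroup.mem_top x)))
  have hceq : commutator W = Subgroup.center W := by
    refine Subgroup.eq_of_le_of_card_ge hle ?_
    rw [hZ2]
    exact Subgroup.one_lt_card_iff_ne_bot _ |>.2 hne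
  refine ⟨⟨h.two, le_antisymm (PGroups.frattini_le_of hle h.sq_mem) ?_, hceq⟩, hZ2⟩
  rw [← hceq]
  exact PGroups.commutator_le_frattini h.two

/-- The automorphisms fixing `fix a` pointwise. -/
theorem kernel_index {a : MulAut W} (ha : a ∈ E) (h8 : Nat.card (fix a) = 8) :
    ∃ K : Subgroup (MulAut W), K ≤ E ∧ (∀ e ∈ K, fix a ≤ fix e) ∧
      Nat.card E ≤ 3 * Nat.card K ∧ (Nat.card E ≠ Nat.card K → p = 3) := by
  classical
  haveI : Fact (Nat.Prime 2) := ⟨Nat.prime_two⟩
  obtain ⟨hZ, hZ2⟩ := h.center_eq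
  obtain ⟨x, hx, hxZ⟩ : ∃ x ∈ fix a, x ∉ Subgroup.center W := by
    by_contra hall
    push Not at hall
    have := Nat.le_of_dvd Nat.card_pos (Subgroup.card_dvd_of_le (hall : fix a ≤ Subgroup.center W))
    omega
  let K : Subgroup (MulAut W) :=
    { carrier := {e | e ∈ E ∧ e x = x}
      one_mem' := ⟨one_mem _, rfl⟩
      mul_mem' := fun {e f} he hf => ⟨mul_mem he.1 hf.1, by rw [MulAut.mul_apply, hf.2, he.2]⟩
      inv_mem' := fun {e} he => ⟨inv_mem he.1, by
        conv_lhs => rw [← he.2]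
        exact MulAut.inv_apply_self W e x⟩ }
  refine ⟨K, fun e he => he.1, fun e he v hv => ?_, ?_⟩
  · -- `⟨x, Z⟩` has index two in `fix a`
    have hZa : Subgroup.center W ≤ fix a := hZ ▸ h.fixAll_le_fix ha
    let N := Subgroup.center W ⊔ Subgroup.zpowers x
    have hNa : N ≤ fix a := sup_le hZa (Subgroup.zpowers_le.2 hx)
    have hN4 : 8 ≤ 2 * Nat.card N := by
      obtain ⟨d, hd⟩ := Subgroup.card_dvd_of_le (le_sup_left : Subgroup.center W ≤ N)
      obtain ⟨j, hj⟩ := IsPGroup.iff_card.1 (h.two.to_subgroup N)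
      have hlt : Nat.card (Subgroup.center W) < Nat.card N :=
        Set.Finite.card_lt_card (Set.toFinite _) (show Subgroup.center W < N from
          lt_of_le_of_ne le_sup_left fun e =>
            hxZ (e.symm ▸ Subgroup.mem_sup_right (Subgroup.mem_zpowers x)))
      rw [hj, hZ2] at hlt
      have : 2 ≤ j := by
        by_contra hj2
        interval_cases j <;> simp at hlt
      have := Nat.pow_le_pow_right (show 0 < 2 by norm_num) this
      omega
    refine fixes_of_index_two (h.odd_orderOf he.1) h.two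
      (fun w hw => h.fix_invariant ha he.1 hw) hNa (h8 ▸ hN4) ?_ hv
    intro n hn
    have hle : N ≤ fix e := sup_le (hZ ▸ h.fixAll_le_fix he.1) (Subgroup.zpowers_le.2 he.2)
    exact hle hn
  · -- the orbit of `x Z`
    have hfin : Fintype W := Fintype.ofFinite W
    let Z := Subgroup.center W
    let T := fix a
    let S : Set (W ⧸ Z) := {q | q ≠ 1 ∧ ∃ y ∈ T, (QuotientGroup.mk y : W ⧸ Z) = q}
    let f : E ⧸ (K.subgroupOf E) → S := fun q => Quotient.liftOn' q
      (fun e => ⟨QuotientGroup.mk ((e : MulAut W) x), fun h1 => hxZ (by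
          have h2 : (e : MulAut W) x ∈ Z := (QuotientGroup.eq_one_iff _).1 h1
          have h3 : ((e : MulAut W)⁻¹) ((e : MulAut W) x) = (e : MulAut W) x :=
            mem_fixAll.1 (hZ.symm ▸ h2) _ (inv_mem e.2)
          rw [MulAut.inv_apply_self] at h3
          exact h3 ▸ h2), (e : MulAut W) x, h.fix_invariant ha e.2 hx, rfl⟩)
      (fun e e' he => by
        rw [QuotientGroup.leftRel_apply] at he
        have h1 : ((e : MulAut W)⁻¹ * e') x = x := he.2
        rw [MulAut.mul_apply] at h1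
        have h2 : (e' : MulAut W) x = (e : MulAut W) x := by
          have := congrArg (e : MulAut W) h1
          rwa [MulAut.apply_inv_self] at this
        exact Subtype.ext (congrArg QuotientGroup.mk h2.symm))
    have hinj : Function.Injective f := by
      rintro ⟨e⟩ ⟨e'⟩ hee
      refine QuotientGroup.eq.2 ⟨mul_mem (inv_mem e.2) e'.2, ?_⟩
      have h1 : ((e : MulAut W) x)⁻¹ * (e' : MulAut W) x ∈ Z :=
        QuotientGroup.eq.1 (congrArg Subtype.val hee)
      obtain ⟨g, hg⟩ : ∃ g : MulAut W, g = (e : MulAut W)⁻¹ * e' := ⟨_, rfl⟩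
      have hgE : g ∈ E := hg ▸ mul_mem (inv_mem e.2) e'.2
      have hgx : x⁻¹ * g x ∈ Z := by
        have h2 : ((e : MulAut W)⁻¹) (((e : MulAut W) x)⁻¹ * (e' : MulAut W) x) ∈ Z := by
          rw [mem_fixAll.1 (hZ.symm ▸ h1) _ (inv_mem e.2)]; exact h1
        rw [map_mul, map_inv, MulAut.inv_apply_self] at h2
        rw [hg, MulAut.mul_apply]; exact h2
      have hpow : ∀ k : ℕ, (g ^ k) x = x * (x⁻¹ * g x) ^ k := by
        intro k
        induction k with
        | zero => simp
        | succ k ih =>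
          rw [pow_succ', MulAut.mul_apply, ih, map_mul, map_pow,
            mem_fixAll.1 (hZ.ge hgx) g hgE, pow_succ']
          simp [mul_assoc]
      obtain ⟨l, hl⟩ := h.two (x⁻¹ * g x)
      have h3 : (x⁻¹ * g x) ^ orderOf g = 1 := by
        simpa [pow_orderOf_eq_one] using (hpow (orderOf g)).symm
      have h4 := (inv_mul_eq_one.1 (eq_one_of_pow_odd (h.odd_orderOf hgE) h3 hl)).symm
      rw [hg] at h4
      exact h4
    have hS : Nat.card S ≤ 3 := by
      let T' := T.map (QuotientGroup.mk' Z)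
      have hT' : Nat.card T' = 4 := by
        have hker : ((QuotientGroup.mk' Z).comp T.subtype).ker = Z.subgroupOf T := by
          rw [← MonoidHom.comap_ker, QuotientGroup.ker_mk']; rfl
        have h1 := Subgroup.index_ker ((QuotientGroup.mk' Z).comp T.subtype)
        rw [hker, MonoidHom.range_comp, Subgroup.range_subtype] at h1
        have h2 := (Z.subgroupOf T).card_mul_index
        rw [h1, Nat.card_congr (Subgroup.subgroupOfEquivOfLe ((hZ.ge.trans (h.fixAll_le_fix ha)) : Z ≤ T)).toEquiv] at h2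
        change Nat.card Z * Nat.card T' = Nat.card T at h2
        rw [hZ2, h8] at h2
        omega
      have hsub : S ⊆ (T' : Set (W ⧸ Z)) \ {1} := by
        rintro q ⟨hq1, y, hy, rfl⟩
        exact ⟨⟨y, hy, rfl⟩, hq1⟩
      have h5 := Set.ncard_le_ncard hsub (Set.toFinite _)
      rw [Set.ncard_diff_singleton_of_mem (one_mem T')] at h5
      have h6 : (T' : Set (W ⧸ Z)).ncard = 4 := by rw [← Nat.card_coe_set_eq]; exact hT'
      rw [← Nat.card_coe_set_eq, h6] at h5
      exact h5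
    have hidx : (K.subgroupOf E).index ≤ 3 := (Nat.card_le_card_of_injective f hinj).trans hS
    have hmul := (K.subgroupOf E).card_mul_index
    rw [Nat.card_congr (Subgroup.subgroupOfEquivOfLe (fun e he => he.1 : K ≤ E)).toEquiv] at hmul
    refine ⟨?_, fun hne => ?_⟩
    · rw [← hmul, mul_comm 3]
      exact Nat.mul_le_mul le_rfl hidx
    · obtain ⟨k, hk⟩ := IsPGroup.iff_card.1 h.grp
      obtain ⟨i, -, hi⟩ := (Nat.dvd_prime_pow hp.out).1
        (hk ▸ (Subgroup.index_dvd_card (K.subgroupOf E)))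
      rcases Nat.eq_zero_or_pos i with rfl | hipos
      · rw [hi, pow_zero, mul_one] at hmul
        exact absurd hmul.symm hne
      · have h7 : p ≤ 3 := (Nat.le_self_pow hipos.ne' p).trans (hi ▸ hidx)
        have := hp.out.two_le
        have := h.odd
        omega

theorem exists_two : ∃ a ∈ E, ∃ b ∈ E, Nat.card (fix a) = 8 ∧ Nat.card (fix b) = 8 ∧
    ¬ fix b ≤ fix a := by
  obtain ⟨hZ, hZ2⟩ := h.center_eq
  obtain ⟨a, ha, ha1, hle⟩ := h.exists_moving
  have h8 := (h.fix_cases ha ha1).resolve_left hle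
  by_contra hcon
  push Not at hcon
  refine ha1 (MulEquiv.ext fun x => ?_)
  have htop : (⊤ : Subgroup W) ≤ fix a := h.gen (fun _ _ _ _ => trivial) fun b hb hb1 k _ hk => by
    rcases h.fix_le_center_or hb hb1 with hc | hc
    · exact h.fixAll_le_fix ha (hZ.symm ▸ hc hk)
    · exact hcon a ha b hb h8 hc hk
  exact htop (Subgroup.mem_top x)

theorem three_and_card : p = 3 ∧ Nat.card E = 9 := by
  classical
  obtain ⟨hZ, hZ2⟩ := h.center_eq
  obtain ⟨a, ha, b, hb, ha8, hb8, hab⟩ := h.exists_two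
  obtain ⟨Ka, hKaE, hKa, hKac, hKap⟩ := h.kernel_index ha ha8
  obtain ⟨Kb, hKbE, hKb, hKbc, -⟩ := h.kernel_index hb hb8
  have hinf : Ka ⊓ Kb = ⊥ := by
    refine (Subgroup.eq_bot_iff_forall _).2 fun e he => ?_
    by_contra he1
    rcases h.fix_le_center_or (hKaE he.1) he1 with hc | hc
    · have h1 := Subgroup.card_dvd_of_le ((hKa e he.1).trans hc)
      rw [ha8, hZ2] at h1
      norm_num at h1
    · have h1 := Subgroup.eq_of_le_of_card_ge (hKa e he.1) (by rw [hc, ha8])
      exact hab (h1 ▸ hKb e he.2)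
  have hmul : Nat.card Ka * Nat.card Kb ≤ Nat.card E := by
    refine le_trans ?_ (le_of_eq (Nat.card_congr (Equiv.refl _)))
    rw [← Nat.card_prod]
    refine Nat.card_le_card_of_injective (fun u : Ka × Kb =>
      (⟨(u.1 : MulAut W) * u.2, mul_mem (hKaE u.1.2) (hKbE u.2.2)⟩ : E)) ?_
    intro u v huv
    have h1 : (u.1 : MulAut W) * u.2 = (v.1 : MulAut W) * v.2 := congrArg Subtype.val huv
    have h2 : ((v.1 : MulAut W))⁻¹ * u.1 = (v.2 : MulAut W) * (u.2 : MulAut W)⁻¹ := by
      rw [eq_mul_inv_iff_mul_eq, mul_assoc, h1, inv_mul_cancel_left]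
    have h3 : ((v.1 : MulAut W))⁻¹ * u.1 ∈ Ka ⊓ Kb :=
      ⟨Ka.mul_mem (Ka.inv_mem v.1.2) u.1.2, h2 ▸ Kb.mul_mem v.2.2 (Kb.inv_mem u.2.2)⟩
    rw [hinf, Subgroup.mem_bot] at h3
    have h4 : (u.1 : MulAut W) = v.1 := (inv_mul_eq_one.1 h3).symm
    refine Prod.ext (Subtype.ext h4) (Subtype.ext ?_)
    rw [h4] at h1
    exact mul_left_cancel h1
  have hle : Nat.card E ≤ 9 := by
    rcases Nat.eq_zero_or_pos (Nat.card E) with h0 | hpos
    · omega
    have h1 : Nat.card E * Nat.card E ≤ 9 * Nat.card E := by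
      calc Nat.card E * Nat.card E ≤ (3 * Nat.card Ka) * (3 * Nat.card Kb) :=
            Nat.mul_le_mul hKac hKbc
        _ = 9 * (Nat.card Ka * Nat.card Kb) := by ring
        _ ≤ 9 * Nat.card E := Nat.mul_le_mul le_rfl hmul
    exact Nat.le_of_mul_le_mul_right h1 hpos
  obtain ⟨k, hk⟩ := IsPGroup.iff_card.1 h.grp
  have hk2 : 2 ≤ k := by
    by_contra hlt
    refine h.noncyclic ?_
    interval_cases k
    · haveI : Subsingleton E := (Nat.card_eq_one_iff_unique.1 (by rw [hk, pow_zero])).1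
      infer_instance
    · exact isCyclic_of_prime_card (p := p) (by rw [hk, pow_one])
  have hp3 : 3 ≤ p := by
    have := hp.out.two_le
    have := h.odd
    omega
  have h1 : 9 ≤ p ^ k := le_trans (Nat.pow_le_pow_left hp3 2) (Nat.pow_le_pow_right (by omega) hk2)
  have h9 : Nat.card E = 9 := by omega
  refine ⟨?_, h9⟩
  have h3 : (3 : ℕ) ∣ p ^ k := ⟨3, by omega⟩
  exact ((Nat.prime_dvd_prime_iff_eq Nat.prime_three hp.out).1 (Nat.prime_three.dvd_of_dvd_pow h3)).symm

theorem card_cases : Nat.card W = 2 ^ 5 ∨ Nat.card W = 2 ^ 7 ∨ Nat.card W = 2 ^ 9 := by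
  classical
  haveI : Fact (Nat.Prime 2) := ⟨Nat.prime_two⟩
  obtain ⟨hZ, hZ2⟩ := h.center_eq
  obtain ⟨hp3, h9⟩ := h.three_and_card
  subst hp3
  obtain ⟨n, hn⟩ := IsPGroup.iff_card.1 h.two
  -- parity
  have hodd : n % 2 = 1 := by
    letI : MulAction E W := MulAction.compHom W E.subtype
    have hfix : Nat.card (MulAction.fixedPoints E W) = 2 := by
      rw [← hZ2, ← hZ]
      refine Nat.card_congr (Equiv.subtypeEquivRight fun x => ?_)
      rw [mem_fixAll]
      exact ⟨fun hx e he => hx ⟨e, he⟩, fun hx e => hx e e.2⟩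
    have hmod := h.grp.card_modEq_card_fixedPoints W
    rw [hfix, hn] at hmod
    rcases Nat.mod_two_eq_zero_or_one n with he | he
    · exfalso
      obtain ⟨m, rfl⟩ : ∃ m, n = 2 * m := ⟨n / 2, by omega⟩
      rw [pow_mul, Nat.ModEq, Nat.pow_mod] at hmod
      norm_num at hmod
    · exact he
  -- lower bound
  obtain ⟨a, ha, b, hb, ha8, hb8, hab⟩ := h.exists_two
  have hlow : 8 < Nat.card W := by
    rw [← ha8, ← Subgroup.card_top (G := W)]
    refine Set.Finite.card_lt_card (Set.toFinite _) (show fix a < ⊤ from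
      lt_top_iff_ne_top.2 fun e => hab ?_)
    rw [e]; exact le_top
  have hn5 : 5 ≤ n := by
    by_contra hlt
    have : n ≤ 3 := by omega
    have := Nat.pow_le_pow_right (show 0 < 2 by norm_num) this
    omega
  -- upper bound
  obtain ⟨u, v, hu, hv, hu1, huv⟩ : ∃ u v : MulAut W, u ∈ E ∧ v ∈ E ∧ u ≠ 1 ∧
      v ∉ Subgroup.zpowers u := by
    haveI := h.comm
    obtain ⟨q, x, y, hq, hxA, hyA, hxo, -, hyx⟩ := CoprimeAction.exists_two_generators h.noncyclic
    exact ⟨x, y, hxA, hyA, fun e => hq.ne_one (by rw [← hxo, e, orderOf_one]), hyx⟩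
  have hcomm : Commute u v := congrArg Subtype.val (h.comm.is_comm.comm (⟨u, hu⟩ : E) ⟨v, hv⟩)
  have hexp : ∀ e ∈ E, e ^ 3 = 1 := by
    intro e he
    by_contra hne
    refine h.noncyclic (isCyclic_of_orderOf_eq_card (⟨e, he⟩ : E) ?_)
    have hdvd : orderOf (⟨e, he⟩ : E) ∣ 3 ^ 2 := (orderOf_dvd_natCard _).trans (by rw [h9]; norm_num)
    obtain ⟨i, hi, hoi⟩ := (Nat.dvd_prime_pow Nat.prime_three).1 hdvd
    rcases hi.lt_or_eq with hlt | rfl
    · exfalso
      refine hne (congrArg Subtype.val (orderOf_dvd_iff_pow_eq_one.1 (?_ : orderOf (⟨e, he⟩ : E) ∣ 3)))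
      rw [hoi]
      exact (pow_dvd_pow 3 (show i ≤ 1 by omega)).trans (by norm_num)
    · rw [hoi, h9]; norm_num
  let Z := Subgroup.center W
  have hnorm : ∀ T : Subgroup W, Z ≤ T → T.Normal := fun T hT => ⟨fun t ht g => by
    have e : g * t * g⁻¹ = ⁅g, t⁆ * t := by simp [commutatorElement_def, mul_assoc]
    rw [e]
    exact mul_mem (hT (h.commutator_mem g t)) ht⟩
  have hstep : ∀ e ∈ E, e ≠ 1 → ∀ T : Subgroup W, Z ≤ T →
      Nat.card ↥(T ⊔ fix e) ≤ 4 * Nat.card T := by
    intro e he he1 T hT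
    rcases h.fix_le_center_or he he1 with hc | hc
    · rw [sup_eq_left.2 (hc.trans hT)]
      omega
    · haveI := hnorm T hT
      have h4 := NormalPComplement.card_sup_mul_card_inf (A := fix e) (B := T)
        Subgroup.le_normalizer_of_normal
      have h5 : 2 ≤ Nat.card ↥(fix e ⊓ T) := by
        rw [← hZ2]
        exact Nat.le_of_dvd Nat.card_pos
          (Subgroup.card_dvd_of_le (le_inf (hZ ▸ h.fixAll_le_fix he) hT))
      rw [hc, sup_comm] at h4
      have h6 := (Nat.mul_le_mul (le_refl (Nat.card ↥(T ⊔ fix e))) h5).trans h4.le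
      omega
  have hv1 : v ≠ 1 := fun e => huv (e ▸ one_mem _)
  have huvne : u * v ≠ 1 := fun e => huv (by
    rw [eq_inv_of_mul_eq_one_right e]; exact inv_mem (Subgroup.mem_zpowers u))
  have huvne2 : u * v ^ 2 ≠ 1 := fun e => huv (by
    have h2 : v ^ 2 = u⁻¹ := eq_inv_of_mul_eq_one_right e
    have h3 : v = (v ^ 2) ^ 2 := by rw [← pow_mul]; exact (by
      rw [show (2 * 2) = 3 + 1 from rfl, pow_succ, hexp v hv, one_mul])
    rw [h3, h2]
    exact pow_mem (inv_mem (Subgroup.mem_zpowers u)) 2)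
  let T₁ := Z ⊔ fix u
  let T₂ := T₁ ⊔ fix v
  let T₃ := T₂ ⊔ fix (u * v)
  let T₄ := T₃ ⊔ fix (u * v ^ 2)
  have hZ1 : Z ≤ T₁ := le_sup_left
  have hZ2' : Z ≤ T₂ := hZ1.trans le_sup_left
  have hZ3 : Z ≤ T₃ := hZ2'.trans le_sup_left
  have hfixinv : ∀ e : MulAut W, fix e ≤ fix (e ^ 2) := fun e x hx => by
    show (e ^ 2) x = x
    rw [sq, MulAut.mul_apply, show e x = x from hx, show e x = x from hx]
  have htop : (⊤ : Subgroup W) ≤ T₄ := by
    refine h.gen (fun _ _ _ _ => trivial) fun e he he1 k _ hk => ?_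
    -- write `e = u ^ i * v ^ j`
    let P : Fin 3 × Fin 3 → E := fun ij =>
      ⟨u ^ (ij.1 : ℕ) * v ^ (ij.2 : ℕ), mul_mem (pow_mem hu _) (pow_mem hv _)⟩
    have hPinj : Function.Injective P := by
      rintro ⟨i, j⟩ ⟨i', j'⟩ hP
      have h1 : u ^ (i : ℕ) * v ^ (j : ℕ) = u ^ (i' : ℕ) * v ^ (j' : ℕ) := congrArg Subtype.val hP
      have hu3 : orderOf u = 3 := orderOf_eq_prime (hexp u hu) hu1
      have hj : j = j' := by
        by_contra hjne
        refine huv ?_
        have hmem : v ^ ((j : ℤ) - (j' : ℤ)) ∈ Subgroup.zpowers u := by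
          refine Subgroup.mem_zpowers_iff.2 ⟨(i' : ℤ) - (i : ℤ), ?_⟩
          rw [zpow_sub, zpow_sub, zpow_natCast, zpow_natCast, zpow_natCast, zpow_natCast,
            eq_mul_inv_iff_mul_eq, mul_assoc, ((hcomm.pow_pow (i : ℕ) (j' : ℕ)).inv_left).eq,
            ← mul_assoc, ← h1, mul_assoc, ← (hcomm.pow_pow (i : ℕ) (j : ℕ)).inv_left.eq,
            ← mul_assoc, mul_inv_cancel, one_mul]
        have hcop : IsCoprime ((j : ℤ) - (j' : ℤ)) (3 : ℤ) := by
          refine ((Nat.prime_iff_prime_int.1 Nat.prime_three).coprime_iff_not_dvd.2 ?_).symm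
          intro hd
          have hj1 := j.isLt
          have hj2 := j'.isLt
          exact hjne (Fin.ext (by push_cast at hd; omega))
        obtain ⟨c, d, hcd⟩ := hcop
        have hv' : v = (v ^ ((j : ℤ) - (j' : ℤ))) ^ c := by
          conv_lhs => rw [← zpow_one v, ← hcd, zpow_add, zpow_mul', zpow_mul' v d]
          rw [show v ^ (3 : ℤ) = 1 from by rw [show (3 : ℤ) = ((3 : ℕ) : ℤ) from rfl,
            zpow_natCast, hexp v hv], one_zpow, mul_one]
        rw [hv']
        exact zpow_mem hmem c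
      subst hj
      rw [mul_left_inj, pow_eq_pow_iff_modEq, hu3] at h1
      have hi1 := i.isLt
      have hi2 := i'.isLt
      refine Prod.ext (Fin.ext ?_) rfl
      rw [Nat.ModEq, Nat.mod_eq_of_lt hi1, Nat.mod_eq_of_lt hi2] at h1
      exact h1
    have hPsurj : Function.Surjective P :=
      (Nat.bijective_iff_injective_and_card P).2
        ⟨hPinj, by rw [h9, Nat.card_eq_fintype_card]; rfl⟩ |>.2
    obtain ⟨⟨i, j⟩, hij⟩ := hPsurj ⟨e, he⟩
    have he' : u ^ (i : ℕ) * v ^ (j : ℕ) = e := congrArg Subtype.val hij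
    have h3u := hexp u hu
    have h3v := hexp v hv
    have hsq : e ^ 2 = u ^ (2 * (i : ℕ)) * v ^ (2 * (j : ℕ)) := by
      rw [← he', (hcomm.pow_pow _ _).mul_pow, ← pow_mul, ← pow_mul, mul_comm _ 2, mul_comm _ 2]
    have hk2 : k ∈ fix (e ^ 2) := hfixinv e hk
    have hu4 : u ^ (2 * 2) = u := by rw [show (2 * 2) = 3 + 1 from rfl, pow_succ, h3u, one_mul]
    have hv4 : v ^ (2 * 2) = v := by rw [show (2 * 2) = 3 + 1 from rfl, pow_succ, h3v, one_mul]
    rw [hsq] at hk2
    have hkk : k ∈ fix e := hk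
    rw [← he'] at hkk
    fin_cases i <;> fin_cases j <;>
      simp only [hu4, hv4, pow_zero, pow_one, mul_zero, mul_one, one_mul, Fin.isValue,
        Fin.zero_eta, Fin.mk_one, Fin.reduceFinMk, Fin.val_zero, Fin.val_one, Fin.val_two] at hk2 hkk he'
    · exact absurd he'.symm he1
    · exact Subgroup.mem_sup_left (Subgroup.mem_sup_left (Subgroup.mem_sup_right hkk))
    · exact Subgroup.mem_sup_left (Subgroup.mem_sup_left (Subgroup.mem_sup_right hk2))
    · exact Subgroup.mem_sup_left (Subgroup.mem_sup_left (Subgroup.mem_sup_left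
        (Subgroup.mem_sup_right hkk)))
    · exact Subgroup.mem_sup_left (Subgroup.mem_sup_right hkk)
    · exact Subgroup.mem_sup_right hkk
    · exact Subgroup.mem_sup_left (Subgroup.mem_sup_left (Subgroup.mem_sup_left
        (Subgroup.mem_sup_right hk2)))
    · exact Subgroup.mem_sup_right hk2
    · exact Subgroup.mem_sup_left (Subgroup.mem_sup_right hk2)
  have h1 := hstep u hu hu1 Z le_rfl
  have h2 := hstep v hv hv1 T₁ hZ1
  have h3 := hstep (u * v) (mul_mem hu hv) huvne T₂ hZ2'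
  have h4 := hstep (u * v ^ 2) (mul_mem hu (pow_mem hv 2)) huvne2 T₃ hZ3
  have htop' : T₄ = ⊤ := top_le_iff.1 htop
  have hWc : Nat.card ↥T₄ = 2 ^ n := by rw [htop', Subgroup.card_top, hn]
  rw [show Nat.card Z = 2 from hZ2] at h1
  have hup : 2 ^ n ≤ 2 ^ 9 := by
    rw [← hWc]
    calc Nat.card ↥T₄ ≤ 4 * Nat.card ↥T₃ := h4
      _ ≤ 4 * (4 * Nat.card ↥T₂) := Nat.mul_le_mul le_rfl h3
      _ ≤ 4 * (4 * (4 * Nat.card ↥T₁)) := Nat.mul_le_mul le_rfl (Nat.mul_le_mul le_rfl h2)
      _ ≤ 4 * (4 * (4 * (4 * 2))) :=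
        Nat.mul_le_mul le_rfl (Nat.mul_le_mul le_rfl (Nat.mul_le_mul le_rfl h1))
      _ = 2 ^ 9 := by norm_num
  have hn9 : n ≤ 9 := (Nat.pow_le_pow_iff_right (by norm_num)).1 hup
  rw [hn]
  rcases (show n = 5 ∨ n = 7 ∨ n = 9 by omega) with rfl | rfl | rfl <;> simp

end Hyp

end Main

end CfsgLib.TwoGroups.OneInv
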